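import Cfsg.Agent.H974.ExcGood
import Cfsg.Agent.UGT.U2.FOne.TriComb
import Cfsg.Agent.UGT.U2.FOne.FFourComb

/-!
# Three commuting groups of fixed points (helper974)

* `Com3 p x` : three pairwise commuting `MM`-subgroups;
* `Sys` : a simply laced closed system `D` of roots with `x (X c) = X c` for `c ∈ D`;
* `Sys.three` : three orthogonal good roots;
* `Sys.a2s` : three orthogonal `A₂`-systems;
* `Sys.d4` : in a `D₄` there are two good roots in a given frame, or three orthogonal good roots;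
* `ra_comm` : rank one groups of orthogonal roots commute (simply laced case).
-/

set_option autoImplicit false
set_option linter.unusedSectionVars false
set_option maxHeartbeats 400000

namespace Cfsg.Agent.H974.Exc

open CoxeterSystem Cfsg.Agent.ChevalleyStructure.CoxeterGeom Cfsg.Agent.Tits.Roots Cfsg.Agent.Tits.Core
  Cfsg.Agent.Tits.RootComb Cfsg.Agent.Tits.Exchange Cfsg.Agent.Nodes.Comb Cfsg.Agent.Nodes.Reps
  Cfsg.Agent.Nodes.BNOf Cfsg.Agent.Nodes.RGDLib Cfsg.Agent.Nodes.Bruhat Cfsg.Agent.Nodes.StabComb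
  Cfsg.Agent.Nodes.OppDec Cfsg.Agent.Nodes.Coroot Cfsg.Agent.KFacts.RgdSL Cfsg.Agent.UGT.U2.FOne
open scoped commutatorElement

section Com

variable {K : Type*} [Group K] {p : ℕ}

/-- Three pairwise commuting `MM`-subgroups. -/
def Com3 (p : ℕ) (x : MulAut K) : Prop :=
  ∃ N₁ N₂ N₃ : Subgroup K, MM p x N₁ ∧ MM p x N₂ ∧ MM p x N₃ ∧
    (∀ a ∈ N₁, ∀ b ∈ N₂, a * b = b * a) ∧ (∀ a ∈ N₁, ∀ b ∈ N₃, a * b = b * a) ∧
    (∀ a ∈ N₂, ∀ b ∈ N₃, a * b = b * a)

theorem MM.congr {L : Type*} [Group L] {x : MulAut K} {N : Subgroup K} (h : MM p x N) (e : K ≃* L) :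
    MM p (MulAut.congr e x) (N.map e.toMonoidHom) where
  fix := by
    rintro _ ⟨g, hg, rfl⟩
    change e (x (e.symm (e g))) = e g
    rw [e.symm_apply_apply, h.fix g hg]
  gen := by
    have h1 := Subgroup.map_mono (f := e.toMonoidHom) h.gen
    refine h1.trans ?_
    rw [MonoidHom.map_closure]
    refine Subgroup.closure_mono ?_
    rintro _ ⟨g, ⟨hg, k, hk⟩, rfl⟩
    refine ⟨Subgroup.mem_map_of_mem _ hg, k, ?_⟩
    rw [← map_pow, hk, map_one]
  even := by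
    rw [Subgroup.card_map_of_injective e.injective]
    exact h.even

theorem Com3.congr {L : Type*} [Group L] {x : MulAut K} (h : Com3 p x) (e : K ≃* L) :
    Com3 p (MulAut.congr e x) := by
  obtain ⟨N₁, N₂, N₃, h1, h2, h3, c12, c13, c23⟩ := h
  have key : ∀ {A B : Subgroup K}, (∀ a ∈ A, ∀ b ∈ B, a * b = b * a) →
      ∀ a ∈ A.map e.toMonoidHom, ∀ b ∈ B.map e.toMonoidHom, a * b = b * a := by
    rintro A B hc _ ⟨a, ha, rfl⟩ _ ⟨b, hb, rfl⟩
    rw [← map_mul, hc a ha b hb, map_mul]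
  exact ⟨_, _, _, h1.congr e, h2.congr e, h3.congr e, key c12, key c13, key c23⟩

end Com

variable {I W K : Type*} [Fintype I] [DecidableEq I] [Group W] [Group K] {M : CoxeterMatrix I}
  {cs : CoxeterSystem M W} {A : I → I → ℤ} {h : IsCartan M A} {p : ℕ} {T : Subgroup K} {n : I → K}
  {X : (I → ℤ) → Subgroup K}

/-- commuting rank one groups -/
theorem ra_comm_of {r s : I → ℤ}
    (h1 : ∀ u ∈ X r, ∀ v ∈ X s, u * v = v * u) (h2 : ∀ u ∈ X r, ∀ v ∈ X (-s), u * v = v * u)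
    (h3 : ∀ u ∈ X (-r), ∀ v ∈ X s, u * v = v * u) (h4 : ∀ u ∈ X (-r), ∀ v ∈ X (-s), u * v = v * u) :
    ∀ a ∈ RA X r, ∀ b ∈ RA X s, a * b = b * a := by
  have key : ∀ {B C D : Subgroup K}, (∀ u ∈ B, ∀ v ∈ D, u * v = v * u) → (∀ u ∈ C, ∀ v ∈ D, u * v = v * u) →
      ∀ u ∈ B ⊔ C, ∀ v ∈ D, u * v = v * u := by
    intro B C D hB hC u hu v hv
    have hle : B ⊔ C ≤ Subgroup.centralizer ({v} : Set K) := by
      refine sup_le ?_ ?_
      · intro u hu
        rw [Subgroup.mem_centralizer_singleton_iff]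
        exact hB u hu v hv
      · intro u hu
        rw [Subgroup.mem_centralizer_singleton_iff]
        exact hC u hu v hv
    exact Subgroup.mem_centralizer_singleton_iff.1 (hle hu)
  intro a ha b hb
  exact (key (D := RA X r) (B := X s) (C := X (-s))
    (fun u hu v hv => (key (fun v hv u hu => h1 v hv u hu) (fun v hv u hu => h3 v hv u hu) v hv u hu).symm)
    (fun u hu v hv => (key (fun v hv u hu => h2 v hv u hu) (fun v hv u hu => h4 v hv u hu) v hv u hu).symm)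
    b hb a ha).symm

/-- orthogonal roots, simply laced case -/
theorem ra_comm [Finite W] (R : RGD cs h p T n X) (hs : SL cs h) {r s : I → ℤ} (hr : IsRoot cs h r)
    (hs' : IsRoot cs h s) (hc : cpr cs h r s = 0) : ∀ a ∈ RA X r, ∀ b ∈ RA X s, a * b = b * a := by
  have key : ∀ {r s : I → ℤ}, IsRoot cs h r → IsRoot cs h s → cpr cs h r s = 0 →
      ∀ u ∈ X r, ∀ v ∈ X s, u * v = v * u := by
    intro r s hr hs' hc u hu v hv
    have hne : r ≠ s := by
      rintro rfl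
      rw [cpr_self cs h hr] at hc
      omega
    have hne' : r ≠ -s := by
      rintro rfl
      rw [cpr_neg_left _ hs', cpr_self cs h hs'] at hc
      omega
    exact comm_of_not_btwn R hr hs' hne hne' (fun z => hs.not_btwn hr hs' hne hc.ge z) hu hv
  refine ra_comm_of (key hr hs' hc) (key hr hs'.neg ?_) (key hr.neg hs' ?_) (key hr.neg hs'.neg ?_)
  · rw [cpr_neg_right cs h _ hs', hc, neg_zero]
  · rw [cpr_neg_left _ hs', hc, neg_zero]
  · rw [cpr_neg_left _ hs'.neg, cpr_neg_right cs h _ hs', hc, neg_zero, neg_zero]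

/-- A simply laced closed system of roots whose root groups are invariant under `x`. -/
structure Sys (cs : CoxeterSystem M W) {A : I → I → ℤ} (h : IsCartan M A) (X : (I → ℤ) → Subgroup K) (x : MulAut K)
    (D : (I → ℤ) → Prop) : Prop where
  root : ∀ {c}, D c → IsRoot cs h c
  neg : ∀ {c}, D c → D (-c)
  add : ∀ {c d}, D c → D d → cpr cs h c d = -1 → D (c + d)
  symm : ∀ {c d}, D c → D d → cpr cs h c d = cpr cs h d c
  a2 : ∀ {c d}, D c → D d → cpr cs h c d = -1 → A2 cs h c d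
  fix : ∀ {c}, D c → (X c).map x.toMonoidHom = X c
  com : ∀ {c d}, D c → D d → cpr cs h c d = 0 → ∀ a ∈ RA X c, ∀ b ∈ RA X d, a * b = b * a

theorem prop_aux {P₀ P₁ P₂ P₃ G : Prop} (h : (G ↔ P₃) ↔ (((G ↔ P₀) ↔ P₁) ↔ P₂)) (n01 : ¬ (P₀ ∧ P₁))
    (n02 : ¬ (P₀ ∧ P₂)) (n03 : ¬ (P₀ ∧ P₃)) (n12 : ¬ (P₁ ∧ P₂)) (n13 : ¬ (P₁ ∧ P₃)) (n23 : ¬ (P₂ ∧ P₃)) :
    ¬ P₀ ∧ ¬ P₁ ∧ ¬ P₂ ∧ ¬ P₃ := by
  by_cases h0 : P₀
  · have h1 : ¬ P₁ := fun h1 => n01 ⟨h0, h1⟩
    have h2 : ¬ P₂ := fun h1 => n02 ⟨h0, h1⟩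
    have h3 : ¬ P₃ := fun h1 => n03 ⟨h0, h1⟩
    by_cases hG : G <;> simp [h0, h1, h2, h3, hG] at h
  by_cases h1 : P₁
  · have h2 : ¬ P₂ := fun h => n12 ⟨h1, h⟩
    have h3 : ¬ P₃ := fun h => n13 ⟨h1, h⟩
    by_cases hG : G <;> simp [h0, h1, h2, h3, hG] at h
  by_cases h2 : P₂
  · have h3 : ¬ P₃ := fun h => n23 ⟨h2, h⟩
    by_cases hG : G <;> simp [h0, h1, h2, h3, hG] at h
  by_cases h3 : P₃
  · by_cases hG : G <;> simp [h0, h1, h2, h3, hG] at h
  exact ⟨h0, h1, h2, h3⟩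

namespace Sys

variable {x : MulAut K} {D : (I → ℤ) → Prop}

section

variable [Finite W] [Finite K] (S : Sys cs h X x D) (R : RGD cs h p T n X)

include S R

theorem good_neg_iff {c : I → ℤ} (hc : D c) : Good x X (-c) ↔ Good x X c := by
  constructor
  · intro h1
    have := good_neg R (S.root (S.neg hc)) (S.fix (S.neg hc)) (by rw [neg_neg]; exact S.fix hc) h1
    rwa [neg_neg] at this
  · exact good_neg R (S.root hc) (S.fix hc) (S.fix (S.neg hc))

/-- three orthogonal good roots -/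
theorem three {a b c : I → ℤ} (ha : D a) (hb : D b) (hc : D c) (ga : Good x X a) (gb : Good x X b)
    (gc : Good x X c) (h1 : cpr cs h a b = 0) (h2 : cpr cs h a c = 0) (h3 : cpr cs h b c = 0) : Com3 p x := by
  obtain ⟨N₁, l1, m1⟩ := exists_mm R (S.root ha) (S.fix ha) (S.fix (S.neg ha)) ga
  obtain ⟨N₂, l2, m2⟩ := exists_mm R (S.root hb) (S.fix hb) (S.fix (S.neg hb)) gb
  obtain ⟨N₃, l3, m3⟩ := exists_mm R (S.root hc) (S.fix hc) (S.fix (S.neg hc)) gc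
  exact ⟨N₁, N₂, N₃, m1, m2, m3, fun u hu v hv => S.com ha hb h1 u (l1 hu) v (l2 hv),
    fun u hu v hv => S.com ha hc h2 u (l1 hu) v (l3 hv), fun u hu v hv => S.com hb hc h3 u (l2 hu) v (l3 hv)⟩

/-- an `A₂` contains a good root -/
theorem exists_good (hxx : ∀ g, x (x g) = g) {r s : I → ℤ} (hr : D r) (hs : D s) (hc : cpr cs h r s = -1) :
    ∃ c, D c ∧ Good x X c ∧ (c = r ∨ c = s ∨ c = r + s) := by
  by_cases h1 : Good x X r
  · exact ⟨r, hr, h1, Or.inl rfl⟩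
  by_cases h2 : Good x X s
  · exact ⟨s, hs, h2, Or.inr (Or.inl rfl)⟩
  exact ⟨r + s, S.add hr hs hc, good_add_of_inv R (S.a2 hr hs hc) (inv_of_not_good hxx (S.fix hr) h1)
    (inv_of_not_good hxx (S.fix hs) h2), Or.inr (Or.inr rfl)⟩

/-- three orthogonal `A₂`-systems -/
theorem a2s (hxx : ∀ g, x (x g) = g) {r s r' s' r'' s'' : I → ℤ} (hr : D r) (hs : D s) (hr' : D r') (hs' : D s')
    (hr'' : D r'') (hs'' : D s'') (h1 : cpr cs h r s = -1) (h1' : cpr cs h r' s' = -1)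
    (h1'' : cpr cs h r'' s'' = -1) (o : ∀ c d, (c = r ∨ c = s) → (d = r' ∨ d = s') → cpr cs h c d = 0)
    (o' : ∀ c d, (c = r ∨ c = s) → (d = r'' ∨ d = s'') → cpr cs h c d = 0)
    (o'' : ∀ c d, (c = r' ∨ c = s') → (d = r'' ∨ d = s'') → cpr cs h c d = 0) : Com3 p x := by
  obtain ⟨a, ha, ga, ea⟩ := S.exists_good R hxx hr hs h1
  obtain ⟨b, hb, gb, eb⟩ := S.exists_good R hxx hr' hs' h1'
  obtain ⟨c, hc, gc, ec⟩ := S.exists_good R hxx hr'' hs'' h1''
  have key : ∀ {r s r' s' a b : I → ℤ}, D r → D s → D r' → D s' → D a → D b → cpr cs h r s = -1 →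
      cpr cs h r' s' = -1 → (∀ c d, (c = r ∨ c = s) → (d = r' ∨ d = s') → cpr cs h c d = 0) →
      (a = r ∨ a = s ∨ a = r + s) → (b = r' ∨ b = s' ∨ b = r' + s') → cpr cs h a b = 0 := by
    intro r s r' s' a b hr hs hr' hs' ha hb h1 h1' o ea eb
    have k1 : ∀ d, D d → (d = r' ∨ d = s') → cpr cs h a d = 0 := by
      intro d hd e
      rcases ea with rfl | rfl | rfl
      · exact o _ _ (Or.inl rfl) e
      · exact o _ _ (Or.inr rfl) e
      · rw [cpr_add cs h _ _ (S.root hd), o _ _ (Or.inl rfl) e, o _ _ (Or.inr rfl) e, add_zero]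
    rcases eb with rfl | rfl | rfl
    · exact k1 _ hr' (Or.inl rfl)
    · exact k1 _ hs' (Or.inr rfl)
    · rw [S.symm ha (S.add hr' hs' h1'), cpr_add cs h _ _ (S.root ha), ← S.symm ha hr', ← S.symm ha hs',
        k1 _ hr' (Or.inl rfl), k1 _ hs' (Or.inr rfl), add_zero]
  exact S.three R ha hb hc ga gb gc (key hr hs hr' hs' ha hb h1 h1' o ea eb)
    (key hr hs hr'' hs'' ha hc h1 h1'' o' ea ec) (key hr' hs' hr'' hs'' hb hc h1' h1'' o'' eb ec)

theorem sub {c d : I → ℤ} (hc : D c) (hd : D d) (h1 : cpr cs h c d = 1) : D (c - d) := by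
  rw [sub_eq_add_neg]
  exact S.add hc (S.neg hd) (by rw [cpr_neg_right cs h _ (S.root hd), h1])

theorem good_sub_iff (hp2 : Odd p) (hxx : ∀ g, x (x g) = g) {c d : I → ℤ} (hc : D c) (hd : D d)
    (h1 : cpr cs h c d = 1) : Good x X (c - d) ↔ (Good x X c ↔ Good x X d) := by
  rw [sub_eq_add_neg, good_add_iff R hp2 hxx (S.a2 hc (S.neg hd) (by rw [cpr_neg_right cs h _ (S.root hd), h1]))
    (S.fix hc) (S.fix (S.neg hd)), S.good_neg_iff R hd]

theorem cpr_sub {a b c : I → ℤ} (hc : D c) : cpr cs h (a - b) c = cpr cs h a c - cpr cs h b c := by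
  rw [sub_eq_add_neg, cpr_add cs h _ _ (S.root hc), cpr_neg_left _ (S.root hc), sub_eq_add_neg]

/-- **The lemma on `D₄`.** -/
theorem d4 (hp2 : Odd p) (hxx : ∀ g, x (x g) = g) {b₀ b₁ b₂ b₃ g : I → ℤ} (d0 : D b₀) (d1 : D b₁) (d2 : D b₂)
    (d3 : D b₃) (dg : D g) (o01 : cpr cs h b₀ b₁ = 0) (o02 : cpr cs h b₀ b₂ = 0) (o03 : cpr cs h b₀ b₃ = 0)
    (o12 : cpr cs h b₁ b₂ = 0) (o13 : cpr cs h b₁ b₃ = 0) (o23 : cpr cs h b₂ b₃ = 0)
    (g0 : cpr cs h g b₀ = 1) (g1 : cpr cs h g b₁ = 1) (g2 : cpr cs h g b₂ = 1) (g3 : cpr cs h g b₃ = 1)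
    (hsum : b₀ + b₁ + b₂ + b₃ = g + g) :
    Com3 p x ∨ (Good x X b₀ ∧ Good x X b₁) ∨ (Good x X b₀ ∧ Good x X b₂) ∨ (Good x X b₀ ∧ Good x X b₃) ∨
      (Good x X b₁ ∧ Good x X b₂) ∨ (Good x X b₁ ∧ Good x X b₃) ∨ (Good x X b₂ ∧ Good x X b₃) := by
  have o10 : cpr cs h b₁ b₀ = 0 := by rw [S.symm d1 d0, o01]
  have o20 : cpr cs h b₂ b₀ = 0 := by rw [S.symm d2 d0, o02]
  have o30 : cpr cs h b₃ b₀ = 0 := by rw [S.symm d3 d0, o03]
  have o21 : cpr cs h b₂ b₁ = 0 := by rw [S.symm d2 d1, o12]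
  have g0' : cpr cs h b₀ g = 1 := by rw [S.symm d0 dg, g0]
  have g1' : cpr cs h b₁ g = 1 := by rw [S.symm d1 dg, g1]
  have g2' : cpr cs h b₂ g = 1 := by rw [S.symm d2 dg, g2]
  have s00 : cpr cs h b₀ b₀ = 2 := cpr_self cs h (S.root d0)
  have sgg : cpr cs h g g = 2 := cpr_self cs h (S.root dg)
  -- the roots `g - b`
  have q0 : D (g - b₀) := S.sub R dg d0 g0
  have q1 : D (g - b₁) := S.sub R dg d1 g1
  have q2 : D (g - b₂) := S.sub R dg d2 g2
  have q3 : D (g - b₃) := S.sub R dg d3 g3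
  have k01 : cpr cs h (g - b₀) b₁ = 1 := by rw [S.cpr_sub R d1, g1, o01, sub_zero]
  have k02 : cpr cs h (g - b₀) b₂ = 1 := by rw [S.cpr_sub R d2, g2, o02, sub_zero]
  have q01 : D (g - b₀ - b₁) := S.sub R q0 d1 k01
  have q02 : D (g - b₀ - b₂) := S.sub R q0 d2 k02
  have k012 : cpr cs h (g - b₀ - b₁) b₂ = 1 := by rw [S.cpr_sub R d2, k02, o12, sub_zero]
  have q012 : D (g - b₀ - b₁ - b₂) := S.sub R q01 d2 k012
  have r0 := S.good_sub_iff R hp2 hxx dg d0 g0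
  have r1 := S.good_sub_iff R hp2 hxx dg d1 g1
  have r2 := S.good_sub_iff R hp2 hxx dg d2 g2
  have r3 := S.good_sub_iff R hp2 hxx dg d3 g3
  have r01 := S.good_sub_iff R hp2 hxx q0 d1 k01
  have r02 := S.good_sub_iff R hp2 hxx q0 d2 k02
  have r012 := S.good_sub_iff R hp2 hxx q01 d2 k012
  have hneg : g - b₀ - b₁ - b₂ = -(g - b₃) := by
    have : b₃ = g + g - b₀ - b₁ - b₂ := by rw [← hsum]; abel
    rw [this]; abel
  rw [hneg, S.good_neg_iff R q3, r3, r01, r0] at r012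
  by_contra hcon
  push Not at hcon
  obtain ⟨hC, n01, n02, n03, n12, n13, n23⟩ := hcon
  obtain ⟨p0, p1, p2, p3⟩ := prop_aux r012 (fun h => n01 h.1 h.2) (fun h => n02 h.1 h.2) (fun h => n03 h.1 h.2)
    (fun h => n12 h.1 h.2) (fun h => n13 h.1 h.2) (fun h => n23 h.1 h.2)
  apply hC
  by_cases hg : Good x X g
  · -- `g`, `g - b₀ - b₁`, `g - b₀ - b₂`
    have t0 : ¬ Good x X (g - b₀) := fun h => p0 ((r0.1 h).1 hg)
    have t1 : Good x X (g - b₀ - b₁) := r01.2 ⟨fun h => absurd h t0, fun h => absurd h p1⟩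
    have t2 : Good x X (g - b₀ - b₂) := r02.2 ⟨fun h => absurd h t0, fun h => absurd h p2⟩
    refine S.three R dg q01 q02 hg t1 t2 ?_ ?_ ?_
    · rw [S.symm dg q01, S.cpr_sub R dg, S.cpr_sub R dg, sgg, g0', g1']; norm_num
    · rw [S.symm dg q02, S.cpr_sub R dg, S.cpr_sub R dg, sgg, g0', g2']; norm_num
    · rw [S.cpr_sub R q02, S.cpr_sub R q02, S.symm dg q02, S.symm d0 q02, S.symm d1 q02, S.cpr_sub R dg,
        S.cpr_sub R dg, S.cpr_sub R d0, S.cpr_sub R d0, S.cpr_sub R d1, S.cpr_sub R d1, sgg, g0', g2', g0, s00, o20,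
        g1, o01, o21]
      norm_num
  · have t0 : Good x X (g - b₀) := r0.2 ⟨fun h => absurd h hg, fun h => absurd h p0⟩
    have t1 : Good x X (g - b₁) := r1.2 ⟨fun h => absurd h hg, fun h => absurd h p1⟩
    have t2 : Good x X (g - b₂) := r2.2 ⟨fun h => absurd h hg, fun h => absurd h p2⟩
    refine S.three R q0 q1 q2 t0 t1 t2 ?_ ?_ ?_
    · rw [S.cpr_sub R q1, S.symm dg q1, S.symm d0 q1, S.cpr_sub R dg, S.cpr_sub R d0, sgg, g1', g0, o10]; norm_num
    · rw [S.cpr_sub R q2, S.symm dg q2, S.symm d0 q2, S.cpr_sub R dg, S.cpr_sub R d0, sgg, g2', g0, o20]; norm_num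
    · rw [S.cpr_sub R q2, S.symm dg q2, S.symm d1 q2, S.cpr_sub R dg, S.cpr_sub R d1, sgg, g2', g1, o21]; norm_num

end

end Sys

/-- the roots fixed by `x`, all root groups invariant, simply laced case -/
theorem sys_all [Finite W] (R : RGD cs h p T n X) (hs : SL cs h) {x : MulAut K}
    (hfix : ∀ c, IsRoot cs h c → (X c).map x.toMonoidHom = X c) : Sys cs h X x (IsRoot cs h) where
  root := id
  neg := fun hc => hc.neg
  add := fun hc hd h1 => isRoot_add hc hd h1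
  symm := fun hc hd => hs _ _ hc hd
  a2 := fun hc hd h1 => hs.a2 hc hd h1
  fix := hfix _
  com := fun hc hd h1 => ra_comm R hs hc hd h1

end Cfsg.Agent.H974.Exc
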