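import Cfsg.Prelude.Def_LieTypeChar
import Cfsg.Prelude.Def_Classification2
import Cfsg.Agent.S0249
import Cfsg.Agent.TwoFusion.SLTwoFacts
import Cfsg.Agent.S0270
import Cfsg.Agent.S0283
import Cfsg.Agent.S0295
import Cfsg.Agent.S0296
import Cfsg.Agent.S0297
import Cfsg.Agent.S1054
import Cfsg.Agent.S1055
import Cfsg.Agent.S1070
import Cfsg.Agent.S1071
import Cfsg.Agent.S1072
import Cfsg.Agent.S1073
import Cfsg.Agent.S1162

/-!
# The groups of `IsLieTypeChar p` are simple (helper974)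
-/

set_option autoImplicit false

namespace Cfsg.Agent.H974.LieSimple

open Cfsg Subgroup

theorem simple_congr {G H : Type*} [Group G] [Group H] (e : G ≃* H) (h : IsSimpleGroup H) : IsSimpleGroup G :=
  (MulEquiv.isSimpleGroup_congr e).2 h

theorem of_psl {p : ℕ} {G : Type*} [Group G] (h : IsPSLChar p G) : IsSimpleGroup G := by
  obtain ⟨F, _, _, _, n, hn, h4, ⟨e⟩⟩ := h
  refine simple_congr e ?_
  rcases eq_or_lt_of_le hn with h2 | h3
  · subst h2
    exact Cfsg.Agent.TwoFusion.SLTwoFacts.isSimpleGroup_psl (by have := h4 rfl; omega)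
  · exact Cfsg.Agent.S0249.result n h3

theorem of_psp {p : ℕ} {G : Type*} [Group G] (h : IsPSpChar p G) : IsSimpleGroup G := by
  obtain ⟨F, _, _, _, m, hm, h3, ⟨e⟩⟩ := h
  exact simple_congr e (Cfsg.Agent.S0270.result m hm h3)

theorem of_psu {p : ℕ} {G : Type*} [Group G] (h : IsPSUChar p G) : IsSimpleGroup G := by
  obtain ⟨F, _, _, _, n, q, hF, hn, h3, ⟨e⟩⟩ := h
  exact simple_congr e (Cfsg.Agent.S0283.result hF n hn h3)

theorem of_odd {p : ℕ} {G : Type*} [Group G] (h : IsPOmegaOddChar p G) : IsSimpleGroup G := by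
  obtain ⟨F, _, _, _, m, hm, ho, ⟨e⟩⟩ := h
  exact simple_congr e (Cfsg.Agent.S0295.result ho m hm)

theorem of_plus {p : ℕ} {G : Type*} [Group G] (h : IsPOmegaPlusChar p G) : IsSimpleGroup G := by
  obtain ⟨F, _, _, _, m, hm, ⟨e⟩⟩ := h
  exact simple_congr e (Cfsg.Agent.S0296.result m hm)

theorem of_minus {p : ℕ} {G : Type*} [Group G] (h : IsPOmegaMinusChar p G) : IsSimpleGroup G := by
  obtain ⟨F, _, _, _, m, a, b, hm, hab, ⟨e⟩⟩ := h
  exact simple_congr e (Cfsg.Agent.S0297.result m hm a b hab)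

theorem of_chev {p : ℕ} {G : Type*} [Group G] (h : IsExceptionalChevChar p G) : IsSimpleGroup G := by
  obtain ⟨F, _, _, _, ⟨h3, ⟨e⟩⟩ | ⟨⟨e⟩⟩ | ⟨⟨e⟩⟩ | ⟨⟨e⟩⟩ | ⟨⟨e⟩⟩⟩ := h
  · refine simple_congr e (Cfsg.Agent.S1055.result ?_).1
    classical
    obtain ⟨a, ha⟩ : ∃ a : F, a ∉ ({0, 1} : Finset F) := by
      by_contra hcon
      push_neg at hcon
      have h1 : Fintype.card F ≤ ({0, 1} : Finset F).card := by
        rw [← Finset.card_univ]
        exact Finset.card_le_card fun x _ => hcon x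
      have h2 : ({0, 1} : Finset F).card ≤ 2 := Finset.card_le_two
      omega
    rw [Finset.mem_insert, Finset.mem_singleton, not_or] at ha
    exact ⟨a, ha.1, ha.2⟩
  · exact simple_congr e (Cfsg.Agent.S1054.result _ (by simp)).1
  · exact simple_congr e (Cfsg.Agent.S1054.result _ (by simp)).1
  · exact simple_congr e (Cfsg.Agent.S1054.result _ (by simp)).1
  · exact simple_congr e (Cfsg.Agent.S1054.result _ (by simp)).1

theorem of_twisted {p : ℕ} {G : Type*} [Group G] (h : IsTwistedE6D4Char p G) : IsSimpleGroup G := by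
  obtain ⟨K, _, _, _, q, hq, ⟨hK, ⟨e⟩⟩ | ⟨hK, ⟨e⟩⟩⟩ := h
  · exact simple_congr e (Cfsg.Agent.S1070.result hq hK).1
  · exact simple_congr e (Cfsg.Agent.S1071.result hq hK).1

theorem of_sz {G : Type*} [Group G] (h : Lie.IsoSuzuki G) : IsSimpleGroup G := by
  obtain ⟨F, _, _, m, hm, hF, ⟨e⟩⟩ := h
  exact simple_congr e (Cfsg.Agent.S1162.result hm hF)

theorem of_2f4 {G : Type*} [Group G] (h : Lie.Iso2F4 G) : IsSimpleGroup G := by
  obtain ⟨F, _, _, m, hm, hF, ⟨e⟩⟩ := h
  exact simple_congr e (Cfsg.Agent.S1072.result hm hF).1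

theorem of_ree {G : Type*} [Group G] (h : Lie.IsoRee G) : IsSimpleGroup G := by
  obtain ⟨F, _, _, m, hm, hF, ⟨e⟩⟩ := h
  exact simple_congr e (Cfsg.Agent.S1073.result hm hF).1

/-- **KNOWN-GROUP FACT: a group of Lie type is simple.** -/
theorem simple_of_lie {p : ℕ} {G : Type*} [Group G] (h : IsLieTypeChar p G) : IsSimpleGroup G := by
  rcases h with h | h | h | h | h | h | h | h | ⟨-, h⟩ | ⟨-, h⟩ | ⟨-, h⟩
  · exact of_psl h
  · exact of_psp h
  · exact of_psu h
  · exact of_odd h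
  · exact of_plus h
  · exact of_minus h
  · exact of_chev h
  · exact of_twisted h
  · exact of_sz h
  · exact of_2f4 h
  · exact of_ree h

end Cfsg.Agent.H974.LieSimple
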