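import Cfsg.Agent.S0813
import Cfsg.Agent.H26.SolvPPrime
import Cfsg.Agent.ClassicalGeometry.PSL2Basic
import Cfsg.Agent.H256.OddInner
import Cfsg.Agent.H292.Oct
import Cfsg.Agent.S0249

/-!
# The group `L₃(3)` (helper974)

* `card_psl`, `card_aut` : the orders of `L₃(3)` and of its automorphism group;
* `oi` : automorphisms of odd order are inner;
* `eight` : a group `A` with `A / Z(A) ≅ L₃(3)` has an element of order 8.
-/

set_option autoImplicit false

namespace Cfsg.Agent.H974.LThree

open Cfsg Subgroup Matrix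

universe u v

section psl

variable {F : Type u} [Field F] [Fintype F]

theorem card_psl (hF : Fintype.card F = 3) : Nat.card (ProjectiveSpecialLinearGroup (Fin 3) F) = 5616 :=
  H26.SolvPPrime.card_psl_three hF

theorem card_aut (hF : Fintype.card F = 3) : Nat.card (MulAut (ProjectiveSpecialLinearGroup (Fin 3) F)) = 11232 := by
  have h3 : Fact (Nat.Prime 3) := ⟨Nat.prime_three⟩
  have h := S0813.result (F := F) 3 1 le_rfl (by rw [hF]; norm_num) 3 (by norm_num) (by norm_num)
  rw [h]
  have hG : Nat.card (GL (Fin 3) F) = 11232 := by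
    rw [Matrix.card_GL_field, hF]
    decide
  have h4 := ClassicalGeometry.PSL2Basic.card_PGL_mul (n := Fin 3) (F := F)
  rw [hG, hF] at h4
  have h5 : Nat.card (Matrix.ProjGenLinGroup (Fin 3) F) = 5616 := by omega
  rw [h5, if_neg (by norm_num)]

theorem simple (F : Type u) [Field F] : IsSimpleGroup (ProjectiveSpecialLinearGroup (Fin 3) F) :=
  S0249.result (F := F) 3 le_rfl

theorem center_bot (hF : Fintype.card F = 3) : center (ProjectiveSpecialLinearGroup (Fin 3) F) = ⊥ := by
  have := simple F
  rcases this.eq_bot_or_eq_top_of_normal (center (ProjectiveSpecialLinearGroup (Fin 3) F)) inferInstance with h | h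
  · exact h
  · exfalso
    have hc : IsMulCommutative (ProjectiveSpecialLinearGroup (Fin 3) F) := ⟨⟨fun a b => by
      have h1 : a ∈ center (ProjectiveSpecialLinearGroup (Fin 3) F) := by rw [h]; exact mem_top a
      exact (mem_center_iff.1 h1 b).symm⟩⟩
    let _ : CommGroup (ProjectiveSpecialLinearGroup (Fin 3) F) :=
      { (inferInstance : Group (ProjectiveSpecialLinearGroup (Fin 3) F)) with mul_comm := hc.is_comm.comm }
    have h1 := IsSimpleGroup.prime_card (α := ProjectiveSpecialLinearGroup (Fin 3) F)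
    rw [card_psl hF] at h1
    norm_num at h1

/-- **Automorphisms of odd order are inner.** -/
theorem oi (hF : Fintype.card F = 3) : H256.OddInner.OI (ProjectiveSpecialLinearGroup (Fin 3) F) := by
  refine H256.OddInner.OI.of_index (n := 1) ?_
  have h1 := (MulAut.conj : ProjectiveSpecialLinearGroup (Fin 3) F →* MulAut _).range.card_mul_index
  have hinj : Function.Injective (MulAut.conj : ProjectiveSpecialLinearGroup (Fin 3) F →* MulAut _) := by
    rw [injective_iff_map_eq_one]
    intro g hg
    have h3 : g ∈ center (ProjectiveSpecialLinearGroup (Fin 3) F) := by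
      rw [mem_center_iff]
      intro x
      have h2 := DFunLike.congr_fun hg x
      rw [MulAut.conj_apply, MulAut.one_apply, mul_inv_eq_iff_eq_mul] at h2
      exact h2.symm
    rwa [center_bot hF, mem_bot] at h3
  rw [← Nat.card_congr (MonoidHom.ofInjective hinj).toEquiv, card_psl hF, card_aut hF] at h1
  omega

theorem three_two (hF : Fintype.card F = 3) : (3 : F) = 0 ∧ (2 : F) ≠ 0 := by
  have : CharP F 3 := by
    have : Fact (Nat.Prime 3) := ⟨Nat.prime_three⟩
    exact charP_of_card_eq_prime_pow (f := 1) (by rw [hF, pow_one])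
  refine ⟨by exact_mod_cast (CharP.cast_eq_zero F 3), fun h => ?_⟩
  have h1 : ((2 : ℕ) : F) = 0 := by exact_mod_cast h
  rw [CharP.cast_eq_zero_iff F 3] at h1
  norm_num at h1

/-- an element of order 8 -/
def gg : Matrix.SpecialLinearGroup (Fin 3) F := ⟨!![0, 1, 0; 1, 1, 0; 0, 0, -1], by
  rw [det_fin_three]; simp⟩

theorem gg_four (hF : Fintype.card F = 3) : ((gg (F := F) ^ 4 : Matrix.SpecialLinearGroup (Fin 3) F) : Matrix (Fin 3) (Fin 3) F) =
    !![-1, 0, 0; 0, -1, 0; 0, 0, 1] := by
  obtain ⟨h3, -⟩ := three_two hF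
  have e : gg (F := F) ^ 4 = gg * gg * (gg * gg) := by rw [pow_succ, pow_succ, pow_two, mul_assoc]
  rw [e]
  change (!![0, 1, 0; 1, 1, 0; 0, 0, -1] * !![0, 1, 0; 1, 1, 0; 0, 0, -1] *
    (!![0, 1, 0; 1, 1, 0; 0, 0, -1] * !![0, 1, 0; 1, 1, 0; 0, 0, -1]) : Matrix (Fin 3) (Fin 3) F) = _
  ext i j
  fin_cases i <;> fin_cases j <;> simp [Matrix.mul_apply, Fin.sum_univ_three] <;>
    first | linear_combination h3 | linear_combination 2 * h3

theorem eight_psl (hF : Fintype.card F = 3) : H292.Oct.Eight (ProjectiveSpecialLinearGroup (Fin 3) F) := by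
  obtain ⟨h3, h2⟩ := three_two hF
  refine ⟨QuotientGroup.mk gg, ?_, ?_⟩
  · have e : gg (F := F) ^ 8 = 1 := by
      have e1 : gg (F := F) ^ 8 = gg ^ 4 * gg ^ 4 := by group
      apply Subtype.ext
      rw [e1, Matrix.SpecialLinearGroup.coe_mul, gg_four hF, Matrix.SpecialLinearGroup.coe_one]
      ext i j
      fin_cases i <;> fin_cases j <;> simp [Matrix.mul_apply, Fin.sum_univ_three]
    rw [← QuotientGroup.mk_pow, e]
    rfl
  · intro h
    rw [← QuotientGroup.mk_pow] at h
    have h4 : gg (F := F) ^ 4 ∈ center (Matrix.SpecialLinearGroup (Fin 3) F) := (QuotientGroup.eq_one_iff _).1 h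
    rw [Matrix.SpecialLinearGroup.mem_center_iff] at h4
    obtain ⟨c, -, hc⟩ := h4
    rw [gg_four hF] at hc
    have h5 := congrFun (congrFun hc 0) 0
    have h6 := congrFun (congrFun hc 2) 2
    simp at h5 h6
    apply h2
    have h7 : (1 : F) = -1 := h6.symm.trans h5
    linear_combination h7

end psl

/-- elements of order 8 are lifted -/
theorem eight_of_quot {A : Type v} [Group A] [Finite A] (h : H292.Oct.Eight (A ⧸ center A)) : H292.Oct.Eight A := by
  obtain ⟨y, hy8, hy4⟩ := h
  obtain ⟨a, rfl⟩ := QuotientGroup.mk_surjective y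
  have h1 : 8 ∣ orderOf a := by
    have h2 : orderOf (QuotientGroup.mk a : A ⧸ center A) = 8 := by
      have h3 : orderOf (QuotientGroup.mk a : A ⧸ center A) ∣ 2 ^ 3 := orderOf_dvd_of_pow_eq_one hy8
      obtain ⟨k, hk, hk'⟩ := (Nat.dvd_prime_pow Nat.prime_two).1 h3
      interval_cases k
      · exact absurd (orderOf_dvd_iff_pow_eq_one.1 (by rw [hk']; norm_num)) hy4
      · exact absurd (orderOf_dvd_iff_pow_eq_one.1 (by rw [hk']; norm_num)) hy4
      · exact absurd (orderOf_dvd_iff_pow_eq_one.1 (by rw [hk']; norm_num)) hy4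
      · exact hk'
    rw [← h2]
    exact orderOf_map_dvd (QuotientGroup.mk' (center A)) a
  obtain ⟨m, hm⟩ := h1
  have hpos := orderOf_pos a
  have hm0 : 0 < m := by
    rcases Nat.eq_zero_or_pos m with h | h
    · rw [h, mul_zero] at hm; omega
    · exact h
  refine ⟨a ^ m, ?_, ?_⟩
  · rw [← pow_mul, mul_comm, ← hm, pow_orderOf_eq_one]
  · rw [← pow_mul]
    intro h
    have h2 := Nat.le_of_dvd (by positivity) (orderOf_dvd_of_pow_eq_one h)
    rw [hm] at h2
    omega

end Cfsg.Agent.H974.LThree
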