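import Cfsg.Agent.H283.DescComp
import Cfsg.Agent.Schreier.BNSch

/-!
# The order of a group with a split (B,N)-pair of characteristic `r` (helper974)

* `charBN_dvd` : `r ^ k + 1` divides `|Q|` and `r ^ k` divides `|Q|` for some `k ≥ 1`.
-/

set_option autoImplicit false

namespace Cfsg.Agent.H974.BNOrd

open Cfsg Subgroup Cfsg.Agent.H283.DescComp

universe u

/-- **The panel.** -/
theorem charBN_dvd {r : ℕ} [hr : Fact r.Prime] {Q : Type u} [Group Q] [Finite Q] (h : CharBN r Q) :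
    ∃ k : ℕ, 1 ≤ k ∧ r ^ k ∣ Nat.card Q ∧ r ^ k + 1 ∣ Nat.card Q := by
  classical
  obtain ⟨P, U, ⟨s, hs⟩, hU, hUB, hn, hsplit⟩ := h
  obtain ⟨O, hO⟩ : ∃ O : Set (Q ⧸ P.B), O = MulAction.orbit ↥U ((s : Q) : Q ⧸ P.B) := ⟨_, rfl⟩
  obtain ⟨k, hk⟩ : ∃ k : ℕ, Nat.card O = r ^ k := by
    rw [hO]
    exact hU.card_orbit ((s : Q) : Q ⧸ P.B)
  have hsB : s ∉ P.B := by
    intro h
    refine P.conj_ne s hs ?_
    ext x
    constructor
    · rintro ⟨b, hb, rfl⟩
      exact mul_mem (mul_mem h hb) h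
    · intro hx
      exact ⟨s⁻¹ * x * s⁻¹, mul_mem (mul_mem (inv_mem h) hx) (inv_mem h), by group⟩
  have hsN : s ∈ P.N := P.subset hs
  -- the torus
  have hT : ∀ t ∈ P.B ⊓ P.N, s⁻¹ * t * s ∈ P.B := by
    intro t ht
    have h1 := P.conj_mem s⁻¹ (inv_mem hsN) t ht
    rwa [inv_inv] at h1
  -- the orbit
  have horb : ∀ b ∈ P.B, ((b * s : Q) : Q ⧸ P.B) ∈ O := by
    intro b hb
    obtain ⟨u, hu, t, ht, rfl⟩ := hsplit b hb
    rw [hO]
    refine ⟨⟨u, hu⟩, ?_⟩
    change ((u * s : Q) : Q ⧸ P.B) = _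
    rw [QuotientGroup.eq]
    have : (u * s)⁻¹ * (u * t * s) = s⁻¹ * t * s := by group
    rw [this]
    exact hT t ht
  have hOmem : ∀ y : Q, (y : Q ⧸ P.B) ∈ O → ∃ b ∈ P.B, ∃ b' ∈ P.B, y = b * s * b' := by
    intro y hy
    rw [hO] at hy
    obtain ⟨⟨u, hu⟩, hy⟩ := hy
    have hy' : ((u * s : Q) : Q ⧸ P.B) = y := hy
    rw [QuotientGroup.eq] at hy'
    exact ⟨u, hUB hu, _, hy', by group⟩
  have h1O : ((1 : Q) : Q ⧸ P.B) ∉ O := by
    intro h1
    obtain ⟨b, hb, b', hb', he⟩ := hOmem 1 h1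
    apply hsB
    have : s = b⁻¹ * (b * s * b') * b'⁻¹ := by group
    rw [this, ← he, mul_one]
    exact mul_mem (inv_mem hb) (inv_mem hb')
  -- the parabolic subgroup
  have hsH : s ∈ P.parabolic {s} := Schreier.BNSch.mem_parabolic_self P s
  have hBH : P.B ≤ P.parabolic {s} := le_sup_left
  have hpre : ((QuotientGroup.mk : Q → Q ⧸ P.B) ⁻¹' (insert ((1 : Q) : Q ⧸ P.B) O)) = (P.parabolic {s} : Set Q) := by
    ext y
    rw [Set.mem_preimage, Set.mem_insert_iff]
    constructor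
    · rintro (h | h)
      · rw [QuotientGroup.eq] at h
        have : y ∈ P.B := by
          have h2 := inv_mem h
          rwa [mul_one, inv_inv] at h2
        exact hBH this
      · obtain ⟨b, hb, b', hb', rfl⟩ := hOmem y h
        exact mul_mem (mul_mem (hBH hb) hsH) (hBH hb')
    · intro h
      rcases Schreier.BNSch.mem_parabolic_singleton P hs h with h | ⟨b, hb, b', hb', rfl⟩
      · left
        rw [QuotientGroup.eq]
        rw [mul_one]
        exact inv_mem h
      · right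
        have h2 := horb b hb
        have h3 : ((b * s * b' : Q) : Q ⧸ P.B) = ((b * s : Q) : Q ⧸ P.B) := by
          rw [QuotientGroup.eq]
          have : (b * s * b')⁻¹ * (b * s) = b'⁻¹ := by group
          rw [this]
          exact inv_mem hb'
        rwa [h3]
  have hcard : Nat.card ↥(P.parabolic {s}) = Nat.card ↥P.B * (r ^ k + 1) := by
    have h1 : Nat.card ↥((QuotientGroup.mk : Q → Q ⧸ P.B) ⁻¹' (insert ((1 : Q) : Q ⧸ P.B) O)) =
        Nat.card ↥P.B * (r ^ k + 1) := by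
      rw [Nat.card_congr (QuotientGroup.preimageMkEquivSubgroupProdSet P.B _), Nat.card_prod]
      congr 1
      rw [Nat.card_coe_set_eq, Set.ncard_insert_of_notMem h1O (Set.toFinite _), ← Nat.card_coe_set_eq, hk]
    rw [← h1, hpre]
    rfl
  refine ⟨k, ?_, ?_, ?_⟩
  · by_contra hk0
    have hk0' : k = 0 := by omega
    subst hk0'
    rw [pow_zero] at hk
    -- `B` fixes the coset
    have hsub : ∀ b ∈ P.B, s⁻¹ * b * s ∈ P.B := by
      intro b hb
      have h1 := horb b hb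
      have h2 : ((s : Q) : Q ⧸ P.B) ∈ O := by
        have := horb 1 (one_mem _)
        rwa [one_mul] at this
      have h3 : Subsingleton ↥O := (Nat.card_eq_one_iff_unique.1 hk).1
      have h4 : (⟨_, h2⟩ : ↥O) = ⟨_, h1⟩ := Subsingleton.elim _ _
      have h5 : ((s : Q) : Q ⧸ P.B) = ((b * s : Q) : Q ⧸ P.B) := congrArg Subtype.val h4
      rw [QuotientGroup.eq] at h5
      have : s⁻¹ * b * s = s⁻¹ * (b * s) := by group
      rw [this]
      exact h5
    have hss := P.sq_mem s hs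
    refine P.conj_ne s hs ?_
    have hmap : (P.B.map (MulAut.conj s⁻¹).toMonoidHom) = P.B := by
      refine Subgroup.eq_of_le_of_card_ge ?_ ?_
      · rintro _ ⟨b, hb, rfl⟩
        change s⁻¹ * b * s⁻¹⁻¹ ∈ P.B
        rw [inv_inv]
        exact hsub b hb
      · rw [Subgroup.card_map_of_injective (MulAut.conj s⁻¹).injective]
    have hsup : ∀ b ∈ P.B, s * b * s⁻¹ ∈ P.B := by
      intro b hb
      rw [← hmap] at hb
      obtain ⟨c, hc, hcb⟩ := hb
      have h6 : s⁻¹ * c * s = b := by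
        have h7 : s⁻¹ * c * s⁻¹⁻¹ = b := hcb
        rwa [inv_inv] at h7
      have : s * b * s⁻¹ = c := by rw [← h6]; group
      rw [this]
      exact hc
    ext x
    constructor
    · rintro ⟨b, hb, rfl⟩
      have : s * b * s = (s * b * s⁻¹) * (s * s) := by group
      change s * b * s ∈ P.B
      rw [this]
      exact mul_mem (hsup b hb) hss
    · intro hx
      refine ⟨s⁻¹ * x * s⁻¹, ?_, by group⟩
      have : s⁻¹ * x * s⁻¹ = (s⁻¹ * x * s) * (s * s)⁻¹ := by group
      rw [this]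
      exact mul_mem (hsub x hx) (inv_mem hss)
  · rw [← hk, hO]
    rw [Nat.card_congr (MulAction.orbitEquivQuotientStabilizer ↥U ((s : Q) : Q ⧸ P.B))]
    exact (Subgroup.card_quotient_dvd_card _).trans (card_subgroup_dvd_card U)
  · exact (Dvd.intro_left _ hcard.symm).trans (card_subgroup_dvd_card _)

end Cfsg.Agent.H974.BNOrd
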