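import Cfsg.Agent.H974.ClsRing
/-!
# Simple factors `M₃(𝔽₃)` of the ring of fixed points: counting (helper974)
-/

set_option autoImplicit false
set_option linter.unusedSectionVars false
set_option maxHeartbeats 400000

namespace Cfsg.Agent.H974

open Cfsg.Agent.BpLin Cfsg.Agent.H340

/-- `c` is the unit element of a simple factor `M₃(𝔽₃)` of the fixed ring. -/
structure BadF {A : Type*} [Ring A] (τ : A ≃+* A) (c : A) : Prop where
  fix : τ c = c
  idem : c * c = c
  comm : ∀ a, τ a = a → c * a = a * c
  ne_zero : c ≠ 0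
  card : Nat.card {x : A // τ x = x ∧ c * x * c = x} = 3 ^ 9
  cen : ∀ (ι : Type) (f : ι → A), Function.Injective f →
    (∀ i, τ (f i) = f i ∧ c * f i * c = f i ∧ ∀ a, τ a = a → f i * a = a * f i) → Nat.card ι ≤ 3

section Of

variable {A : Type} [Ring A] {τ : A ≃+* A}

theorem badF_of {n : ℕ} {D : Fin n → Type} {d : Fin n → ℕ} [∀ i, DivisionRing (D i)] [∀ i, NeZero (d i)]
    (e : ↥(fixRing τ) ≃+* ∀ i, Matrix (Fin (d i)) (Fin (d i)) (D i)) {i : Fin n} (hd : d i = 3)
    (hD : Nat.card (D i) = 3) : BadF τ ((e.symm (Pi.single i 1) : ↥(fixRing τ)) : A) := by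
  classical
  obtain ⟨c, hc⟩ : ∃ c : ↥(fixRing τ), c = e.symm (Pi.single i 1) := ⟨_, rfl⟩
  rw [← hc]
  have hec : e c = Pi.single i 1 := by rw [hc, e.apply_symm_apply]
  have hcc : c * c = c := by
    apply e.injective
    rw [map_mul, hec, ← Pi.single_mul, mul_one]
  have hcen : ∀ a : ↥(fixRing τ), c * a = a * c := by
    intro a
    apply e.injective
    rw [map_mul, map_mul, hec]
    exact ((Subring.mem_center_iff.mp (single_mem_center (R := fun i => Matrix (Fin (d i)) (Fin (d i)) (D i)) i))
      (e a)).symm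
  have hsupp : ∀ a : ↥(fixRing τ), c * a * c = a → ∀ k, k ≠ i → e a k = 0 := by
    intro a ha k hk
    rw [← ha, map_mul, map_mul, hec, Pi.mul_apply, Pi.single_eq_of_ne hk, mul_zero]
  have hne : Nonempty (Fin (d i)) := ⟨0⟩
  have hfinD : Finite (D i) := Nat.finite_of_card_ne_zero (by rw [hD]; norm_num)
  refine ⟨c.2, congrArg Subtype.val hcc, fun a ha => congrArg Subtype.val (hcen ⟨a, ha⟩), ?_, ?_, ?_⟩
  · intro h
    have h1 : c = 0 := Subtype.ext h
    rw [h1, map_zero] at hec
    have h2 := congrFun hec i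
    rw [Pi.zero_apply, Pi.single_eq_same] at h2
    exact zero_ne_one h2
  · let f : {x : A // τ x = x ∧ (c : A) * x * c = x} → Matrix (Fin (d i)) (Fin (d i)) (D i) :=
      fun x => e ⟨x.1, x.2.1⟩ i
    have hf : Function.Bijective f := by
      constructor
      · intro x y hxy
        have h1 : e ⟨x.1, x.2.1⟩ = e ⟨y.1, y.2.1⟩ := by
          funext k
          by_cases hk : k = i
          · subst hk; exact hxy
          · rw [hsupp ⟨x.1, x.2.1⟩ (Subtype.ext x.2.2) k hk, hsupp ⟨y.1, y.2.1⟩ (Subtype.ext y.2.2) k hk]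
        have h2 := congrArg Subtype.val (e.injective h1)
        exact Subtype.ext h2
      · intro y
        have h1 : c * e.symm (Pi.single i y) * c = e.symm (Pi.single i y) := by
          apply e.injective
          rw [map_mul, map_mul, hec, e.apply_symm_apply, ← Pi.single_mul, ← Pi.single_mul, one_mul, mul_one]
        refine ⟨⟨(e.symm (Pi.single i y) : ↥(fixRing τ)), (e.symm (Pi.single i y)).2, congrArg Subtype.val h1⟩, ?_⟩
        change e (e.symm (Pi.single i y)) i = y
        rw [e.apply_symm_apply, Pi.single_eq_same]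
    have hM : Nat.card (Matrix (Fin (d i)) (Fin (d i)) (D i)) = 3 ^ 9 := by
      change Nat.card (Fin (d i) → Fin (d i) → D i) = 3 ^ 9
      rw [Nat.card_pi, Nat.card_pi]
      simp only [hD, Finset.prod_const, Finset.card_univ, Fintype.card_fin, hd]
      norm_num
    rw [Nat.card_congr (Equiv.ofBijective f hf), hM]
  · intro ι f hf hfi
    -- the center of the matrix ring
    have key : ∀ j : ι, ∃ z : D i, Matrix.scalar (Fin (d i)) z = e ⟨f j, (hfi j).1⟩ i := by
      intro j
      have h1 : e ⟨f j, (hfi j).1⟩ i ∈ Subring.center (Matrix (Fin (d i)) (Fin (d i)) (D i)) := by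
        rw [Subring.mem_center_iff]
        intro g
        have h2 : (⟨f j, (hfi j).1⟩ : ↥(fixRing τ)) * e.symm (Pi.single i g) =
            e.symm (Pi.single i g) * ⟨f j, (hfi j).1⟩ :=
          Subtype.ext ((hfi j).2.2 _ (e.symm (Pi.single i g)).2)
        have h3 := congrFun (congrArg e h2) i
        rw [map_mul, map_mul, e.apply_symm_apply, Pi.mul_apply, Pi.mul_apply, Pi.single_eq_same] at h3
        exact h3.symm
      obtain ⟨z, hz⟩ := Matrix.mem_range_scalar_of_commute_single (M := e ⟨f j, (hfi j).1⟩ i) (fun a b _ => by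
        have := (Subring.mem_center_iff.1 h1) (Matrix.single a b 1)
        exact this)
      exact ⟨z, hz⟩
    choose z hz using key
    have hzi : Function.Injective z := by
      intro a b hab
      apply hf
      have h1 : e ⟨f a, (hfi a).1⟩ = e ⟨f b, (hfi b).1⟩ := by
        funext k
        by_cases hk : k = i
        · subst hk; rw [← hz, ← hz, hab]
        · rw [hsupp ⟨f a, (hfi a).1⟩ (Subtype.ext (hfi a).2.1) k hk,
            hsupp ⟨f b, (hfi b).1⟩ (Subtype.ext (hfi b).2.1) k hk]
      exact congrArg Subtype.val (e.injective h1)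
    have h3 := Nat.card_le_card_of_injective z hzi
    rwa [hD] at h3

end Of

namespace BadF

variable {A : Type*} [Ring A] {τ : A ≃+* A} {c : A}

theorem spl (h : BadF τ c) (hP : PrimeR A) (h2 : IsUnit (2 : A)) (hτ : ∀ a, τ (τ a) = a) (h1 : c ≠ 1) : Spl τ c where
  prime := hP
  two x hx := by
    obtain ⟨u, hu⟩ := h2
    have h3 : (u : A) * x = 0 := by rw [hu, two_mul, hx]
    exact (Units.mul_right_eq_zero u).1 h3
  inv := hτ
  fix := h.fix
  idem := h.idem
  comm := h.comm
  ne_zero := h.ne_zero
  ne_one := h1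

/-- the whole corner has order `3 ^ 9` -/
theorem card_corner (h : BadF τ c) (hs : Spl τ c) : Nat.card {x : A // c * x * c = x} = 3 ^ 9 := by
  rw [← h.card]
  refine Nat.card_congr (Equiv.subtypeEquivRight fun x => ⟨fun hx => ⟨?_, hx⟩, fun hx => hx.2⟩)
  have := hs.corner x
  rwa [hx] at this

theorem card_field {F : Type} [Field F] [Algebra F A] (h : BadF τ c) (hs : Spl τ c) : Nat.card F ≤ 3 := by
  refine h.cen F (fun l => l • c) ?_ fun l => ?_
  · intro a b hab
    have h1 : (a - b) • c = 0 := by rw [sub_smul]; exact sub_eq_zero.2 hab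
    rcases smul_eq_zero.1 h1 with h2 | h2
    · exact sub_eq_zero.1 h2
    · exact absurd h2 h.ne_zero
  · have h1 : c * (l • (1 : A)) * c = l • c := by
      rw [mul_smul_comm, mul_one, smul_mul_assoc, h.idem]
    have h2 := hs.corner (l • (1 : A))
    rw [h1] at h2
    refine ⟨h2, ?_, fun a ha => ?_⟩
    · rw [mul_smul_comm, smul_mul_assoc, h.idem, h.idem]
    · rw [smul_mul_assoc, mul_smul_comm, h.comm a ha]

/-- if the fixed ring is simple -/
theorem cen_one {F : Type} (h : BadF τ 1) (f : F → A) (hf : Function.Injective f) (hfix : ∀ l, τ (f l) = f l)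
    (hc : ∀ l a, τ a = a → f l * a = a * f l) : Nat.card F ≤ 3 :=
  h.cen F f hf fun l => ⟨hfix l, by rw [one_mul, mul_one], hc l⟩

theorem card_one (h : BadF τ 1) : Nat.card {x : A // τ x = x} = 3 ^ 9 := by
  rw [← h.card]
  exact Nat.card_congr (Equiv.subtypeEquivRight fun x => ⟨fun hx => ⟨hx, by rw [one_mul, mul_one]⟩, fun hx => hx.1⟩)

end BadF

section Rank

variable {F V : Type*} [Field F] [AddCommGroup V] [Module F V] [Module.Finite F V] {c : Module.End F V}

/-- the corner of an idempotent -/
noncomputable def cornerEquiv (hc : c * c = c) :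
    {x : Module.End F V // c * x * c = x} ≃ Module.End F ↥(LinearMap.range c) where
  toFun x := (x.1.comp (LinearMap.range c).subtype).codRestrict (LinearMap.range c) (fun w => by
    rw [← x.2]
    exact ⟨(x.1 * c) w, rfl⟩)
  invFun y := ⟨(LinearMap.range c).subtype.comp (y.comp c.rangeRestrict), by
    apply LinearMap.ext
    intro v
    change c ((y (c.rangeRestrict (c v)) : ↥(LinearMap.range c)) : V) = ((y (c.rangeRestrict v) : ↥(LinearMap.range c)) : V)
    have h1 : c.rangeRestrict (c v) = c.rangeRestrict v := Subtype.ext (LinearMap.congr_fun hc v)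
    rw [h1]
    obtain ⟨w, hw⟩ := (y (c.rangeRestrict v)).2
    rw [← hw]
    exact LinearMap.congr_fun hc w⟩
  left_inv x := by
    apply Subtype.ext
    apply LinearMap.ext
    intro v
    change x.1 (c v) = x.1 v
    conv_rhs => rw [← x.2]
    conv_lhs => rw [← x.2]
    change c (x.1 (c (c v))) = c (x.1 (c v))
    rw [show c (c v) = c v from LinearMap.congr_fun hc v]
  right_inv y := by
    apply LinearMap.ext
    rintro ⟨w, v, rfl⟩
    apply Subtype.ext
    change ((y (c.rangeRestrict (c v)) : ↥(LinearMap.range c)) : V) = _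
    congr 2
    exact Subtype.ext (LinearMap.congr_fun hc v)

theorem card_corner_end (hc : c * c = c) : Nat.card {x : Module.End F V // c * x * c = x} =
    Nat.card F ^ (Module.finrank F ↥(LinearMap.range c)) ^ 2 := by
  rw [Nat.card_congr (cornerEquiv hc), Module.natCard_eq_pow_finrank (K := F), Module.finrank_linearMap, pow_two]

theorem rank_three (hF : Nat.card F = 3) (hc : c * c = c)
    (h : Nat.card {x : Module.End F V // c * x * c = x} = 3 ^ 9) : Module.finrank F ↥(LinearMap.range c) = 3 := by
  rw [card_corner_end hc, hF] at h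
  have h1 := Nat.pow_right_injective (by norm_num : 2 ≤ 3) h
  have h2 : Module.finrank F ↥(LinearMap.range c) ^ 2 = 3 ^ 2 := h1
  exact Nat.pow_left_injective (by norm_num : 2 ≠ 0) h2

theorem ker_eq (hc : c * c = c) : LinearMap.ker c = LinearMap.range (1 - c) := by
  ext v
  constructor
  · intro hv
    have hv' : c v = 0 := hv
    exact ⟨v, by rw [LinearMap.sub_apply, hv', sub_zero]; rfl⟩
  · rintro ⟨w, rfl⟩
    change c (w - c w) = 0
    rw [map_sub, show c (c w) = c w from LinearMap.congr_fun hc w, sub_self]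

theorem rank_six (hF : Nat.card F = 3) (hc : c * c = c)
    (h : Nat.card {x : Module.End F V // c * x * c = x} = 3 ^ 9)
    (h' : Nat.card {x : Module.End F V // (1 - c) * x * (1 - c) = x} = 3 ^ 9) : Module.finrank F V = 6 := by
  have hc' : (1 - c) * (1 - c) = 1 - c := by
    rw [sub_mul, mul_sub, mul_sub, hc, one_mul, mul_one, one_mul, sub_self, sub_zero]
  have h1 := rank_three hF hc h
  have h2 := rank_three hF hc' h'
  have h3 := LinearMap.finrank_range_add_finrank_ker c
  rw [ker_eq hc, h1, h2] at h3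
  exact h3.symm

end Rank

/-- the corner of the exchanged idempotent -/
theorem card_corner_swap {A : Type*} [Ring A] (s : RInv A) {c d : A} (h : s c = d) :
    Nat.card {x : A // d * x * d = x} = Nat.card {x : A // c * x * c = x} := by
  refine Nat.card_congr ⟨fun x => ⟨s x.1, ?_⟩, fun x => ⟨s x.1, ?_⟩, fun x => Subtype.ext (s.inv _),
    fun x => Subtype.ext (s.inv _)⟩
  · have h1 := congrArg s x.2
    have h2 : s d = c := by rw [← h, s.inv]
    rw [s.mul, s.mul, h2, ← mul_assoc] at h1
    exact h1
  · have h1 := congrArg s x.2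
    rw [s.mul, s.mul, h, ← mul_assoc] at h1
    exact h1

end Cfsg.Agent.H974
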