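import Cfsg.Agent.H974.ClsPSL
import Cfsg.Agent.SignalizersComponents.ComponentNormalize
/-!
# `PSL_n(3)`, `n ≥ 6`, and the conjugation with an involution with an eigenspace of dimension 3: every component of the
fixed subgroup is centralized by a four-group (helper974)
-/

set_option autoImplicit false
set_option linter.unusedSectionVars false
set_option maxHeartbeats 400000

namespace Cfsg.Agent.H974

open Subgroup Cfsg Matrix
open Cfsg.Agent.ClassicalGeometry.AutPSL.Root Cfsg.Agent.ClassicalGeometry.AutPSL.Auto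
  Cfsg.Agent.ClassicalGeometry.AutPSL.Main
open Cfsg.Agent.SignalizersComponents.ComponentNormalize

section Diag

variable {F : Type} [Field F] {n : ℕ}

/-- idempotents are diagonalizable -/
theorem exists_diag {c : Matrix (Fin n) (Fin n) F} (hc : c * c = c) {k : ℕ}
    (hk : Module.finrank F ↥(LinearMap.range (Matrix.toLin' c)) = k) :
    ∃ (P : GL (Fin n) F) (e : Fin n ≃ Fin k ⊕ Fin (n - k)), k ≤ n ∧
      c = (P : Matrix (Fin n) (Fin n) F) * diagonal (fun i => if (e i).isLeft then 1 else 0) *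
        ((P⁻¹ : GL (Fin n) F) : Matrix (Fin n) (Fin n) F) := by
  obtain ⟨T, hT⟩ : ∃ T, T = Matrix.toLin' c := ⟨_, rfl⟩
  rw [← hT] at hk
  have hTT : IsIdempotentElem T := by
    change T * T = T
    have h1 : Matrix.toLin' c * Matrix.toLin' c = Matrix.toLin' (c * c) := (Matrix.toLin'_mul c c).symm
    rw [hT, h1, hc]
  have hcomp := LinearMap.IsIdempotentElem.isCompl hTT
  have hadd := LinearMap.finrank_range_add_finrank_ker T
  rw [hk, Module.finrank_fintype_fun_eq_card, Fintype.card_fin] at hadd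
  have hk' : Module.finrank F ↥(LinearMap.ker T) = n - k := by omega
  let b1 : Module.Basis (Fin k) F ↥(LinearMap.range T) := Module.finBasisOfFinrankEq F _ hk
  let b2 : Module.Basis (Fin (n - k)) F ↥(LinearMap.ker T) := Module.finBasisOfFinrankEq F _ hk'
  let b : Module.Basis (Fin k ⊕ Fin (n - k)) F (Fin n → F) :=
    (b1.prod b2).map (Submodule.prodEquivOfIsCompl _ _ hcomp)
  have hb1 : ∀ i, b (Sum.inl i) = b1 i := fun i => by
    simp [b]
  have hb2 : ∀ i, b (Sum.inr i) = b2 i := fun i => by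
    simp [b]
  let e : Fin n ≃ Fin k ⊕ Fin (n - k) := Fintype.equivOfCardEq (by simp; omega)
  let b' : Module.Basis (Fin n) F (Fin n → F) := b.reindex e.symm
  have hb' : ∀ i, b' i = b (e i) := fun i => by simp [b']
  let P : Matrix (Fin n) (Fin n) F := (Pi.basisFun F (Fin n)).toMatrix b'
  let P' : Matrix (Fin n) (Fin n) F := b'.toMatrix (Pi.basisFun F (Fin n))
  have hPP' : P * P' = 1 := Module.Basis.toMatrix_mul_toMatrix_flip _ _
  have hP'P : P' * P = 1 := Module.Basis.toMatrix_mul_toMatrix_flip _ _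
  have hPij : ∀ i j, P i j = b' j i := fun i j => by
    simp [P, Module.Basis.toMatrix_apply]
  have hcP : c * P = P * diagonal (fun i => if (e i).isLeft then 1 else 0) := by
    ext i j
    rw [Matrix.mul_diagonal]
    have h1 : (c * P) i j = (T (b' j)) i := by
      rw [hT, Matrix.toLin'_apply, Matrix.mul_apply, Matrix.mulVec, dotProduct]
      exact Finset.sum_congr rfl fun k _ => by rw [hPij]
    rw [h1, hPij, hb']
    rcases hs : e j with a | a
    · rw [hb1]
      have h2 : T (b1 a) = b1 a := by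
        obtain ⟨v, hv⟩ := (b1 a).2
        rw [← hv]
        exact LinearMap.congr_fun hTT v
      rw [h2]; simp
    · rw [hb2]
      have h2 : T (b2 a) = 0 := (b2 a).2
      rw [h2]; simp
  refine ⟨⟨P, P', hPP', hP'P⟩, e, by omega, ?_⟩
  change c = P * _ * P'
  rw [← hcP, mul_assoc, hPP', mul_one]

/-- the diagonal matrices in the new basis -/
noncomputable def dg (P : GL (Fin n) F) (f : Fin n → F) : Matrix (Fin n) (Fin n) F :=
  (P : Matrix (Fin n) (Fin n) F) * diagonal f * ((P⁻¹ : GL (Fin n) F) : Matrix (Fin n) (Fin n) F)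

theorem dg_mul (P : GL (Fin n) F) (f g : Fin n → F) : dg P f * dg P g = dg P (fun i => f i * g i) := by
  unfold dg
  calc (P : Matrix (Fin n) (Fin n) F) * diagonal f * ((P⁻¹ : GL (Fin n) F) : Matrix (Fin n) (Fin n) F) *
        ((P : Matrix (Fin n) (Fin n) F) * diagonal g * ((P⁻¹ : GL (Fin n) F) : Matrix (Fin n) (Fin n) F))
      = (P : Matrix (Fin n) (Fin n) F) * diagonal f * (((P⁻¹ : GL (Fin n) F) : Matrix (Fin n) (Fin n) F) *
        (P : Matrix (Fin n) (Fin n) F)) * diagonal g * ((P⁻¹ : GL (Fin n) F) : Matrix (Fin n) (Fin n) F) := by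
        simp only [mul_assoc]
    _ = _ := by
      rw [← Units.val_mul, inv_mul_cancel, Units.val_one, mul_one, mul_assoc (P : Matrix (Fin n) (Fin n) F),
        diagonal_mul_diagonal]

theorem dg_one (P : GL (Fin n) F) : dg P (fun _ => 1) = 1 := by
  unfold dg
  rw [diagonal_one, mul_one, ← Units.val_mul, mul_inv_cancel, Units.val_one]

theorem dg_sub (P : GL (Fin n) F) (f g : Fin n → F) : dg P f - dg P g = dg P (fun i => f i - g i) := by
  unfold dg
  rw [← sub_mul, ← mul_sub, diagonal_sub]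

theorem dg_injective (P : GL (Fin n) F) : Function.Injective (dg P) := by
  intro f g h
  unfold dg at h
  have h1 : (((P⁻¹ : GL (Fin n) F) : Matrix (Fin n) (Fin n) F) * ((P : Matrix (Fin n) (Fin n) F) * diagonal f *
      ((P⁻¹ : GL (Fin n) F) : Matrix (Fin n) (Fin n) F)) * (P : Matrix (Fin n) (Fin n) F)) = diagonal f := by
    rw [mul_assoc (P : Matrix (Fin n) (Fin n) F), ← mul_assoc ((P⁻¹ : GL (Fin n) F) : Matrix (Fin n) (Fin n) F),
      ← Units.val_mul, inv_mul_cancel, Units.val_one, one_mul, mul_assoc, ← Units.val_mul, inv_mul_cancel,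
      Units.val_one, mul_one]
  have h2 : (((P⁻¹ : GL (Fin n) F) : Matrix (Fin n) (Fin n) F) * ((P : Matrix (Fin n) (Fin n) F) * diagonal g *
      ((P⁻¹ : GL (Fin n) F) : Matrix (Fin n) (Fin n) F)) * (P : Matrix (Fin n) (Fin n) F)) = diagonal g := by
    rw [mul_assoc (P : Matrix (Fin n) (Fin n) F), ← mul_assoc ((P⁻¹ : GL (Fin n) F) : Matrix (Fin n) (Fin n) F),
      ← Units.val_mul, inv_mul_cancel, Units.val_one, one_mul, mul_assoc, ← Units.val_mul, inv_mul_cancel,
      Units.val_one, mul_one]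
  rw [h, h2] at h1
  exact (Matrix.diagonal_injective h1).symm

theorem dg_det (P : GL (Fin n) F) (f : Fin n → F) : (dg P f).det = ∏ i, f i := by
  unfold dg
  rw [Matrix.det_mul, Matrix.det_mul, mul_right_comm, ← Matrix.det_mul, ← Units.val_mul, mul_inv_cancel,
    Units.val_one, Matrix.det_one, one_mul, Matrix.det_diagonal]

/-- the diagonal elements of `SL_n` -/
noncomputable def dgS (P : GL (Fin n) F) (f : Fin n → F) (hf : ∏ i, f i = 1) : Matrix.SpecialLinearGroup (Fin n) F :=
  ⟨dg P f, by rw [dg_det, hf]⟩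

theorem coe_dgS (P : GL (Fin n) F) (f : Fin n → F) (hf : ∏ i, f i = 1) :
    ((dgS P f hf : Matrix.SpecialLinearGroup (Fin n) F) : Matrix (Fin n) (Fin n) F) = dg P f := rfl

theorem dg_comm (P : GL (Fin n) F) (f g : Fin n → F) : dg P f * dg P g = dg P g * dg P f := by
  rw [dg_mul, dg_mul]
  congr 1
  funext i
  exact mul_comm _ _

/-- equality in `PSL` -/
theorem pr_dgS_ne {P : GL (Fin n) F} {f g : Fin n → F} {hf : ∏ i, f i = 1} {hg : ∏ i, g i = 1} {i j : Fin n}
    (h1 : f i = g i) (h2 : f j ≠ g j) (h3 : g i ≠ 0) :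
    (pr (dgS P f hf) : Matrix.ProjectiveSpecialLinearGroup (Fin n) F) ≠ pr (dgS P g hg) := by
  intro h
  obtain ⟨c, hc⟩ := exists_smul_of_pr_eq h
  rw [coe_dgS, coe_dgS] at hc
  have h4 : c • dg P f = dg P (fun i => c * f i) := by
    unfold dg
    rw [← smul_mul_assoc, ← mul_smul_comm, ← Matrix.diagonal_smul]
    rfl
  rw [h4] at hc
  have h5 := dg_injective P hc
  have h6 := congrFun h5 i
  have h7 := congrFun h5 j
  rw [h1] at h6
  have h8 : c = 1 := mul_right_cancel₀ h3 (h6.symm.trans (one_mul _).symm)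
  rw [h8, one_mul] at h7
  exact h2 h7.symm

/-- a sign -/
def sgn {ι : Type} [DecidableEq ι] (F : Type) [Field F] (a b : ι) (i : ι) : F := (if i = a then -1 else 1) * (if i = b then -1 else 1)

theorem prod_sgn (a b : Fin n) : ∏ i, sgn F a b i = 1 := by
  unfold sgn
  rw [Finset.prod_mul_distrib, Finset.prod_ite_eq' Finset.univ a, Finset.prod_ite_eq' Finset.univ b]
  simp

theorem sgn_mul_self (a b i : Fin n) : sgn F a b i * sgn F a b i = 1 := by
  unfold sgn
  split_ifs <;> simp

theorem sgn_ne {a b i : Fin n} (h1 : i ≠ a) (h2 : i ≠ b) : sgn F a b i = 1 := by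
  unfold sgn
  rw [if_neg h1, if_neg h2, one_mul]

theorem sgn_left {a b : Fin n} (h : a ≠ b) : sgn F a b a = -1 := by
  unfold sgn
  rw [if_pos rfl, if_neg h, mul_one]

theorem sgn_right {a b : Fin n} (h : a ≠ b) : sgn F a b b = -1 := by
  unfold sgn
  rw [if_neg h.symm, if_pos rfl, one_mul]

end Diag

section Main

variable {F : Type} [Field F] {n : ℕ}

/-- the block -/
def blk (n : ℕ) (F : Type) [Field F] (c : Matrix (Fin n) (Fin n) F) : Subgroup (Matrix.SpecialLinearGroup (Fin n) F) where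
  carrier := {m | (m : Matrix (Fin n) (Fin n) F) * (1 - c) = 1 - c ∧ (1 - c) * (m : Matrix (Fin n) (Fin n) F) = 1 - c}
  mul_mem' := by
    rintro a b ⟨ha, ha'⟩ ⟨hb, hb'⟩
    refine ⟨?_, ?_⟩
    · rw [Matrix.SpecialLinearGroup.coe_mul, mul_assoc, hb, ha]
    · rw [Matrix.SpecialLinearGroup.coe_mul, ← mul_assoc, ha', hb']
  one_mem' := ⟨by rw [Matrix.SpecialLinearGroup.coe_one, one_mul], by rw [Matrix.SpecialLinearGroup.coe_one, mul_one]⟩
  inv_mem' := by
    rintro a ⟨ha, ha'⟩
    have h1 : ((a⁻¹ : Matrix.SpecialLinearGroup (Fin n) F) : Matrix (Fin n) (Fin n) F) * (a : Matrix (Fin n) (Fin n) F) = 1 := by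
      rw [← Matrix.SpecialLinearGroup.coe_mul, inv_mul_cancel, Matrix.SpecialLinearGroup.coe_one]
    have h2 : (a : Matrix (Fin n) (Fin n) F) * ((a⁻¹ : Matrix.SpecialLinearGroup (Fin n) F) : Matrix (Fin n) (Fin n) F) = 1 := by
      rw [← Matrix.SpecialLinearGroup.coe_mul, mul_inv_cancel, Matrix.SpecialLinearGroup.coe_one]
    refine ⟨?_, ?_⟩
    · conv_lhs => rw [← ha]
      rw [← mul_assoc, h1, one_mul]
    · conv_lhs => rw [← ha']
      rw [mul_assoc, h2, mul_one]

theorem klein (h2 : (2 : F) ≠ 0) (hn : 6 ≤ n) {α : MulAut (Matrix.ProjectiveSpecialLinearGroup (Fin n) F)}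
    (h : LinEx n F α) {A : Subgroup ↥(fixedSubgroup α)} (hA : IsComponent A) :
    ∃ a b : ↥(fixedSubgroup α), (∀ g ∈ A, a * g = g * a) ∧ (∀ g ∈ A, b * g = g * b) ∧ a * a = 1 ∧ b * b = 1 ∧
      a * b = b * a ∧ a ≠ 1 ∧ b ≠ 1 ∧ a ≠ b := by
  obtain ⟨-, c, hcc, hrank, β, rfl, hβ⟩ := h
  obtain ⟨P, e, -, hcP⟩ := exists_diag hcc hrank
  have hcd : c = dg P (fun i => if (e i).isLeft then 1 else 0) := hcP
  have h1m : (-1 : F) ≠ 1 := fun h => h2 (by linear_combination -h)
  -- fixed elements of `SL`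
  have hfix : ∀ m : Matrix.SpecialLinearGroup (Fin n) F, c * (m : Matrix (Fin n) (Fin n) F) = m * c → β m = m := by
    intro m hm
    apply Subtype.ext
    change ((β m : Matrix.SpecialLinearGroup (Fin n) F) : Matrix (Fin n) (Fin n) F) = m
    rw [hβ]
    have e1 : (c - (1 - c)) * (m : Matrix (Fin n) (Fin n) F) = m * (c - (1 - c)) := by
      rw [sub_mul, mul_sub, sub_mul, mul_sub, hm, one_mul, mul_one]
    have e2 : (c - (1 - c)) * (c - (1 - c)) = 1 := by
      have e3 : (c - (1 - c)) * (c - (1 - c)) = 4 * (c * c - c) + 1 := by noncomm_ring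
      rw [e3, hcc, sub_self, mul_zero, zero_add]
    rw [e1, mul_assoc, e2, mul_one]
  have hfix' : ∀ m : Matrix.SpecialLinearGroup (Fin n) F, β m = m → c * (m : Matrix (Fin n) (Fin n) F) = m * c := by
    intro m hm
    have h3 : ((β m : Matrix.SpecialLinearGroup (Fin n) F) : Matrix (Fin n) (Fin n) F) = m := by rw [hm]
    rw [hβ] at h3
    have e2 : (c - (1 - c)) * (c - (1 - c)) = 1 := by
      have e3 : (c - (1 - c)) * (c - (1 - c)) = 4 * (c * c - c) + 1 := by noncomm_ring
      rw [e3, hcc, sub_self, mul_zero, zero_add]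
    have h4 : (c - (1 - c)) * (m : Matrix (Fin n) (Fin n) F) = m * (c - (1 - c)) := by
      conv_rhs => rw [← h3]
      rw [mul_assoc, e2, mul_one]
    have h5 : (2 : F) • (c * (m : Matrix (Fin n) (Fin n) F)) = (2 : F) • ((m : Matrix (Fin n) (Fin n) F) * c) := by
      rw [two_smul, two_smul]
      have e4 : (c - (1 - c)) * (m : Matrix (Fin n) (Fin n) F) = c * m + c * m - m := by noncomm_ring
      have e5 : (m : Matrix (Fin n) (Fin n) F) * (c - (1 - c)) = m * c + m * c - m := by noncomm_ring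
      rw [e4, e5] at h4
      exact sub_left_inj.1 h4
    have h6 := congrArg (fun z => (2 : F)⁻¹ • z) h5
    simpa [smul_smul, inv_mul_cancel₀ h2] using h6
  -- the subgroups
  have hle : (fixedSubgroup β).map (pr : Matrix.SpecialLinearGroup (Fin n) F →* _) ≤ fixedSubgroup (lift β) := by
    rintro _ ⟨m, hm, rfl⟩
    change lift β (pr m) = pr m
    rw [lift_pr, show β m = m from hm]
  have hblk : blk n F c ≤ fixedSubgroup β := by
    rintro m ⟨h3, h4⟩
    apply hfix
    have e1 : (m : Matrix (Fin n) (Fin n) F) * c = m - (1 - c) := by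
      rw [← h3, mul_sub, mul_one, sub_sub_cancel]
    have e2 : c * (m : Matrix (Fin n) (Fin n) F) = m - (1 - c) := by
      rw [← h4, sub_mul, one_mul, sub_sub_cancel]
    rw [e1, e2]
  have hS0 : (((fixedSubgroup β).map (pr : Matrix.SpecialLinearGroup (Fin n) F →* _)).subgroupOf
      (fixedSubgroup (lift β))).Normal := by
    refine ⟨?_⟩
    rintro ⟨x, hx⟩ hx' ⟨g, hg⟩
    rw [mem_subgroupOf] at hx' ⊢
    obtain ⟨m, hm, hmx⟩ := hx'
    obtain ⟨k, rfl⟩ := pr_surjective g
    have hmx : pr m = x := hmx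
    subst hmx
    refine ⟨k * m * k⁻¹, ?_, by simp⟩
    have hg' : lift β (pr k) = pr k := hg
    rw [lift_pr] at hg'
    have hz : β k * k⁻¹ ∈ center (Matrix.SpecialLinearGroup (Fin n) F) := by
      rw [← pr_eq_one_iff, map_mul, map_inv, hg', mul_inv_cancel]
    have hm' : β m = m := hm
    change β (k * m * k⁻¹) = k * m * k⁻¹
    rw [map_mul, map_mul, map_inv, hm']
    have h3 := mem_center_iff.1 hz
    calc β k * m * (β k)⁻¹ = (β k * k⁻¹) * (k * m * k⁻¹) * (β k * k⁻¹)⁻¹ := by group
      _ = (k * m * k⁻¹) * (β k * k⁻¹) * (β k * k⁻¹)⁻¹ := by rw [h3]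
      _ = _ := by group
  have hS1 : (((blk n F c).map (pr : Matrix.SpecialLinearGroup (Fin n) F →* _)).subgroupOf
      (fixedSubgroup (lift β))).IsSubnormal := by
    refine IsSubnormal.step _ (((fixedSubgroup β).map (pr : Matrix.SpecialLinearGroup (Fin n) F →* _)).subgroupOf
      (fixedSubgroup (lift β))) ?_ hS0.isSubnormal ?_
    · intro x hx
      rw [mem_subgroupOf] at hx ⊢
      exact (Subgroup.map_mono hblk) hx
    · refine ⟨?_⟩
      rintro ⟨x, hx0⟩ hx ⟨g, hg⟩
      rw [mem_subgroupOf, mem_subgroupOf] at hx ⊢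
      rw [mem_subgroupOf] at hg
      obtain ⟨m, hm, hmx⟩ := hx
      obtain ⟨k, hk, hkg⟩ := hg
      refine ⟨k * m * k⁻¹, ?_, ?_⟩
      · have hk1 := hfix' k hk
        have hk2 : (1 - c) * (k : Matrix (Fin n) (Fin n) F) = k * (1 - c) := by
          rw [sub_mul, mul_sub, one_mul, mul_one, hk1]
        have hkk : (k : Matrix (Fin n) (Fin n) F) * ((k⁻¹ : Matrix.SpecialLinearGroup (Fin n) F) : Matrix (Fin n) (Fin n) F) = 1 := by
          rw [← Matrix.SpecialLinearGroup.coe_mul, mul_inv_cancel, Matrix.SpecialLinearGroup.coe_one]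
        have hkk' : ((k⁻¹ : Matrix.SpecialLinearGroup (Fin n) F) : Matrix (Fin n) (Fin n) F) * (k : Matrix (Fin n) (Fin n) F) = 1 := by
          rw [← Matrix.SpecialLinearGroup.coe_mul, inv_mul_cancel, Matrix.SpecialLinearGroup.coe_one]
        have hk3 : ((k⁻¹ : Matrix.SpecialLinearGroup (Fin n) F) : Matrix (Fin n) (Fin n) F) * (1 - c) =
            (1 - c) * ((k⁻¹ : Matrix.SpecialLinearGroup (Fin n) F) : Matrix (Fin n) (Fin n) F) := by
          calc ((k⁻¹ : Matrix.SpecialLinearGroup (Fin n) F) : Matrix (Fin n) (Fin n) F) * (1 - c)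
              = ((k⁻¹ : Matrix.SpecialLinearGroup (Fin n) F) : Matrix (Fin n) (Fin n) F) * ((1 - c) *
                (k : Matrix (Fin n) (Fin n) F)) * ((k⁻¹ : Matrix.SpecialLinearGroup (Fin n) F) : Matrix (Fin n) (Fin n) F) := by
                simp only [mul_assoc]; rw [hkk, mul_one]
            _ = (((k⁻¹ : Matrix.SpecialLinearGroup (Fin n) F) : Matrix (Fin n) (Fin n) F) * (k : Matrix (Fin n) (Fin n) F)) *
                (1 - c) * ((k⁻¹ : Matrix.SpecialLinearGroup (Fin n) F) : Matrix (Fin n) (Fin n) F) := by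
                rw [hk2]; simp only [mul_assoc]
            _ = _ := by rw [hkk', one_mul]
        refine ⟨?_, ?_⟩
        · rw [Matrix.SpecialLinearGroup.coe_mul, Matrix.SpecialLinearGroup.coe_mul, mul_assoc, hk3,
            mul_assoc, ← mul_assoc (m : Matrix (Fin n) (Fin n) F), hm.1, ← hk3, ← mul_assoc, hkk, one_mul]
        · rw [Matrix.SpecialLinearGroup.coe_mul, Matrix.SpecialLinearGroup.coe_mul, ← mul_assoc, ← mul_assoc, hk2,
            mul_assoc (k : Matrix (Fin n) (Fin n) F), hm.2, mul_assoc, ← hk3, ← mul_assoc, hkk, one_mul]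
      · rw [map_mul, map_mul, map_inv]
        change _ = g.1 * x.1 * g.1⁻¹
        rw [hkg, hmx]
  -- diagonal elements commute with `c`
  have hdc : ∀ f : Fin n → F, dg P f * c = c * dg P f := fun f => by rw [hcd, dg_comm]
  have hdf : ∀ (f : Fin n → F) (hf : ∏ i, f i = 1), pr (dgS P f hf) ∈ fixedSubgroup (lift β) := by
    intro f hf
    exact hle ⟨_, hfix _ (by rw [coe_dgS, hdc]), rfl⟩
  -- the four-group attached to three indices
  have key : ∀ a b d : Fin n, a ≠ b → b ≠ d → a ≠ d →
      (∀ f : Fin n → F, ∀ hf : ∏ i, f i = 1, (∀ i, i ≠ a → i ≠ b → i ≠ d → f i = 1) →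
        ∀ g ∈ A, (⟨pr (dgS P f hf), hdf f hf⟩ : ↥(fixedSubgroup (lift β))) * g = g * ⟨pr (dgS P f hf), hdf f hf⟩) →
      ∃ x y : ↥(fixedSubgroup (lift β)), (∀ g ∈ A, x * g = g * x) ∧ (∀ g ∈ A, y * g = g * y) ∧ x * x = 1 ∧ y * y = 1 ∧
        x * y = y * x ∧ x ≠ 1 ∧ y ≠ 1 ∧ x ≠ y := by
    intro a b d hab hbd had hcen
    obtain ⟨z, hza, hzb, hzd⟩ : ∃ z : Fin n, z ≠ a ∧ z ≠ b ∧ z ≠ d := by
      by_contra hno
      push Not at hno
      have h3 : (Finset.univ : Finset (Fin n)) ⊆ {a, b, d} := by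
        intro z _
        simp only [Finset.mem_insert, Finset.mem_singleton]
        by_cases h4 : z = a
        · exact Or.inl h4
        · by_cases h5 : z = b
          · exact Or.inr (Or.inl h5)
          · exact Or.inr (Or.inr (hno z h4 h5))
      have h4 := Finset.card_le_card h3
      rw [Finset.card_univ, Fintype.card_fin] at h4
      have h5 : ({a, b, d} : Finset (Fin n)).card ≤ 3 := Finset.card_le_three
      omega
    have hone : (pr (dgS P (fun _ => 1) (by simp)) : Matrix.ProjectiveSpecialLinearGroup (Fin n) F) = 1 := by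
      have : dgS P (fun _ => 1) (by simp) = 1 := Subtype.ext (dg_one P)
      rw [this, map_one]
    have hmul : ∀ f g : Fin n → F, ∀ (hf : ∏ i, f i = 1) (hg : ∏ i, g i = 1) (hfg : ∏ i, f i * g i = 1),
        dgS P f hf * dgS P g hg = dgS P (fun i => f i * g i) hfg := fun f g hf hg hfg =>
      Subtype.ext (dg_mul P f g)
    refine ⟨⟨_, hdf (sgn F a b) (prod_sgn a b)⟩, ⟨_, hdf (sgn F b d) (prod_sgn b d)⟩, ?_, ?_, ?_, ?_, ?_, ?_, ?_, ?_⟩
    · exact hcen _ _ fun i h3 h4 _ => sgn_ne h3 h4
    · exact hcen _ _ fun i _ h4 h5 => sgn_ne h4 h5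
    · apply Subtype.ext
      change pr _ * pr _ = 1
      rw [← map_mul, hmul _ _ _ _ (by simp [sgn_mul_self]), ← hone]
      congr 1
      apply Subtype.ext
      change dg P _ = dg P _
      congr 1
      funext i
      exact sgn_mul_self a b i
    · apply Subtype.ext
      change pr _ * pr _ = 1
      rw [← map_mul, hmul _ _ _ _ (by simp [sgn_mul_self]), ← hone]
      congr 1
      apply Subtype.ext
      change dg P _ = dg P _
      congr 1
      funext i
      exact sgn_mul_self b d i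
    · apply Subtype.ext
      change pr _ * pr _ = pr _ * pr _
      rw [← map_mul, ← map_mul]
      congr 1
      apply Subtype.ext
      exact dg_comm P _ _
    · intro h3
      have h4 : pr (dgS P (sgn F a b) (prod_sgn a b)) = 1 := congrArg Subtype.val h3
      rw [← hone] at h4
      refine pr_dgS_ne (i := z) (j := a) ?_ ?_ one_ne_zero h4
      · exact sgn_ne hza hzb
      · rw [sgn_left hab]; exact h1m
    · intro h3
      have h4 : pr (dgS P (sgn F b d) (prod_sgn b d)) = 1 := congrArg Subtype.val h3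
      rw [← hone] at h4
      refine pr_dgS_ne (i := z) (j := b) ?_ ?_ one_ne_zero h4
      · exact sgn_ne hzb hzd
      · rw [sgn_left hbd]; exact h1m
    · intro h3
      have h4 : pr (dgS P (sgn F a b) (prod_sgn a b)) = pr (dgS P (sgn F b d) (prod_sgn b d)) := congrArg Subtype.val h3
      refine pr_dgS_ne (i := z) (j := a) ?_ ?_ ?_ h4
      · rw [sgn_ne hza hzb, sgn_ne hzb hzd]
      · rw [sgn_left hab, sgn_ne hab had]; exact h1m
      · rw [sgn_ne hzb hzd]; exact one_ne_zero
  rcases component_le_or_comm hA hS1 with hle1 | hcomm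
  · -- `A` in the block: the second block centralizes `A`
    have hinj := e.symm.injective
    refine key (e.symm (Sum.inr ⟨0, by omega⟩)) (e.symm (Sum.inr ⟨1, by omega⟩)) (e.symm (Sum.inr ⟨2, by omega⟩))
      (hinj.ne (by simp)) (hinj.ne (by simp)) (hinj.ne (by simp)) ?_
    intro f hf hfi g hg
    have h3 := hle1 hg
    rw [mem_subgroupOf] at h3
    obtain ⟨m, hm, hmg⟩ := h3
    apply Subtype.ext
    change pr (dgS P f hf) * (g : Matrix.ProjectiveSpecialLinearGroup (Fin n) F) = g * pr (dgS P f hf)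
    rw [← hmg, ← map_mul, ← map_mul]
    congr 1
    apply Subtype.ext
    change dg P f * (m : Matrix (Fin n) (Fin n) F) = m * dg P f
    -- `dg f = c + dg f (1 - c)`
    have h4 : dg P f * c = c := by
      rw [hcd, dg_mul]
      congr 1
      funext i
      by_cases hi : (e i).isLeft
      · rw [if_pos hi, mul_one]
        apply hfi
        · rintro rfl; simp at hi
        · rintro rfl; simp at hi
        · rintro rfl; simp at hi
      · rw [if_neg hi, mul_zero]
    have h5 : c * (m : Matrix (Fin n) (Fin n) F) = m * c := hfix' m (hblk hm)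
    have h6 : dg P f = c + dg P f * (1 - c) := by rw [mul_sub, mul_one, h4]; abel
    have h7 : dg P f * (1 - c) = (1 - c) * dg P f := by rw [mul_sub, sub_mul, hdc, one_mul, mul_one]
    calc dg P f * (m : Matrix (Fin n) (Fin n) F) = c * m + dg P f * ((1 - c) * m) := by
          conv_lhs => rw [h6]
          rw [add_mul, mul_assoc (dg P f)]
      _ = m * c + (1 - c) * dg P f := by rw [h5, hm.2, h7]
      _ = m * c + (m * (1 - c)) * dg P f := by rw [hm.1]
      _ = m * (c + (1 - c) * dg P f) := by rw [mul_add, mul_assoc]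
      _ = m * dg P f := by rw [← h7, ← h6]
  · -- `[A, block] = 1`
    have hinj := e.symm.injective
    refine key (e.symm (Sum.inl 0)) (e.symm (Sum.inl 1)) (e.symm (Sum.inl 2))
      (hinj.ne (by simp)) (hinj.ne (by simp)) (hinj.ne (by simp)) ?_
    intro f hf hfi g hg
    have h4 : dg P f * (1 - c) = 1 - c := by
      have e1 : 1 - c = dg P (fun i => 1 - if (e i).isLeft then 1 else 0) := by
        rw [← dg_sub, dg_one, hcd]
      rw [e1, dg_mul]
      congr 1
      funext i
      rcases hi : e i with j | j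
      · simp
      · simp only [Sum.isLeft_inr, Bool.false_eq_true, if_false, sub_zero, mul_one]
        apply hfi
        · rintro rfl; simp at hi
        · rintro rfl; simp at hi
        · rintro rfl; simp at hi
    have h5 : (1 - c) * dg P f = 1 - c := by
      rw [sub_mul, one_mul, ← hdc, ← h4, mul_sub, mul_one]
    have h6 : (⟨pr (dgS P f hf), hdf f hf⟩ : ↥(fixedSubgroup (lift β))) ∈
        ((blk n F c).map (pr : Matrix.SpecialLinearGroup (Fin n) F →* _)).subgroupOf (fixedSubgroup (lift β)) := by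
      rw [mem_subgroupOf]
      exact ⟨dgS P f hf, ⟨h4, h5⟩, rfl⟩
    have h7 := (commutator_eq_bot_iff_le_centralizer.1 hcomm) hg
    exact (mem_centralizer_iff.1 h7 _ h6)

end Main

end Cfsg.Agent.H974
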