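import Cfsg.Agent.H974.ClsRows
/-!
# `PSL_n(F)`: composition factors of the centralizers of involutory automorphisms, restricted base (helper974)
-/

set_option autoImplicit false
set_option linter.unusedSectionVars false
set_option maxHeartbeats 400000

namespace Cfsg.Agent.H974

open Subgroup Cfsg Cfsg.Agent.BpLin Matrix Cfsg.Agent.H340
open Cfsg.Agent.ClassicalGeometry.AutPSL.Root Cfsg.Agent.ClassicalGeometry.AutPSL.Auto
  Cfsg.Agent.ClassicalGeometry.AutPSL.Main Cfsg.Agent.Schreier.ClassPSL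

universe u

variable {P : ∀ (S : Type u) [Group S], Prop} {r : ℕ} {F : Type} [Field F] [Finite F] [CharP F r] {n : ℕ}

/-- the exceptional linear case: `α` is the conjugation with `2 c - 1`, `c` an idempotent of rank 3 -/
def LinEx (n : ℕ) (F : Type) [Field F] (α : MulAut (Matrix.ProjectiveSpecialLinearGroup (Fin n) F)) : Prop :=
  Nat.card F = 3 ∧ ∃ c : Matrix (Fin n) (Fin n) F, c * c = c ∧
    Module.finrank F ↥(LinearMap.range (Matrix.toLin' c)) = 3 ∧
    ∃ β : MulAut (Matrix.SpecialLinearGroup (Fin n) F), α = lift β ∧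
      ∀ m : Matrix.SpecialLinearGroup (Fin n) F, ((β m : Matrix.SpecialLinearGroup (Fin n) F) : Matrix (Fin n) (Fin n) F) =
        (c - (1 - c)) * (m : Matrix (Fin n) (Fin n) F) * (c - (1 - c))

theorem scalar_fixed (A : GL (Fin n) F) (σ : F ≃+* F) (l : F) :
    semi A σ (scalar (Fin n) l) = scalar (Fin n) (σ l) := by
  rw [semi_apply]
  have h1 : (scalar (Fin n) l).map (σ : F →+* F) = scalar (Fin n) (σ l) := by
    rw [Matrix.scalar_apply, Matrix.scalar_apply, Matrix.diagonal_map (map_zero _)]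
    rfl
  rw [h1, ← (scalar_commute (n := Fin n) (σ l) (Commute.all _) (A : Matrix (Fin n) (Fin n) F)).eq, mul_assoc,
    ← Units.val_mul, mul_inv_cancel, Units.val_one, mul_one]

/-- the fixed ring is `M₃(𝔽₃)`, inner case -/
theorem inner_case (h2 : (2 : F) ≠ 0) (hn : 0 < n) {A : GL (Fin n) F} (h : BadF (semi A (1 : F ≃+* F)) 1) :
    ∃ c : F, scalar (Fin n) c = (A : Matrix (Fin n) (Fin n) F) := by
  by_contra hno
  push Not at hno
  have hNe : Nonempty (Fin n) := ⟨⟨0, hn⟩⟩
  let f : Option F → Matrix (Fin n) (Fin n) F := fun o => o.elim (A : Matrix (Fin n) (Fin n) F) (scalar (Fin n))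
  have hf : Function.Injective f := by
    rintro (_ | a) (_ | b) hab
    · rfl
    · exact absurd hab.symm (hno b)
    · exact absurd hab (hno a)
    · exact congrArg some (Matrix.scalar_inj.1 hab)
  have hid : ∀ T : Matrix (Fin n) (Fin n) F, T.map ((1 : F ≃+* F) : F →+* F) = T := fun T => by ext i j; rfl
  have h3 := h.cen_one f hf (by
    rintro (_ | a)
    · change semi A 1 (A : Matrix (Fin n) (Fin n) F) = A
      rw [semi_apply, hid, mul_assoc, ← Units.val_mul, mul_inv_cancel, Units.val_one, mul_one]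
    · exact scalar_fixed A 1 a) (by
    rintro (_ | a) T hT
    · change (A : Matrix (Fin n) (Fin n) F) * T = T * A
      rw [semi_apply, hid] at hT
      conv_rhs => rw [← hT]
      rw [mul_assoc, ← Units.val_mul, inv_mul_cancel, Units.val_one, mul_one]
    · exact (scalar_commute (n := Fin n) a (Commute.all _) T).eq)
  rw [Finite.card_option] at h3
  have := card_ge_three h2
  omega

/-- the fixed ring is `M₃(𝔽₃)`, semilinear case -/
theorem field_case (h2 : (2 : F) ≠ 0) (hn : 2 ≤ n) {A : GL (Fin n) F} {σ : F ≃+* F} (hσ2 : σ * σ = 1) (hσ : σ ≠ 1)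
    (hτ : ∀ T, semi A σ (semi A σ T) = T) (h : BadF (semi A σ) 1) : n = 3 ∧ Nat.card F = 9 := by
  obtain ⟨b, hb⟩ : ∃ b, σ b ≠ b := by
    by_contra hno
    push Not at hno
    exact hσ (RingEquiv.ext hno)
  have hσσ : ∀ x, σ (σ x) = x := fun x => RingEquiv.congr_fun hσ2 x
  obtain ⟨a, ha0, ha⟩ : ∃ a, a ≠ 0 ∧ σ a = -a := ⟨b - σ b, sub_ne_zero.2 (Ne.symm hb), by rw [map_sub, hσσ, neg_sub]⟩
  let M := Matrix (Fin n) (Fin n) F
  have hsm : ∀ (l : F) (T : M), semi A σ (l • T) = σ l • semi A σ T := by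
    intro l T
    have e : l • T = scalar (Fin n) l * T := by
      rw [Matrix.scalar_apply, ← Matrix.smul_one_eq_diagonal, smul_mul_assoc, one_mul]
    rw [e, map_mul, scalar_fixed, Matrix.scalar_apply, ← Matrix.smul_one_eq_diagonal, smul_mul_assoc, one_mul]
  let g : {x : M // semi A σ x = x} × {x : M // semi A σ x = x} → M := fun p => p.1.1 + a • p.2.1
  have hg : Function.Bijective g := by
    constructor
    · rintro ⟨x, y⟩ ⟨x', y'⟩ he
      have he : x.1 + a • y.1 = x'.1 + a • y'.1 := he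
      have h3 := congrArg (semi A σ) he
      rw [map_add, map_add, hsm, hsm, x.2, y.2, x'.2, y'.2, ha, neg_smul, neg_smul] at h3
      have h4 : (2 : F) • x.1 = (2 : F) • x'.1 := by
        rw [two_smul, two_smul]
        calc x.1 + x.1 = (x.1 + a • y.1) + (x.1 + -(a • y.1)) := by abel
          _ = (x'.1 + a • y'.1) + (x'.1 + -(a • y'.1)) := by rw [he, h3]
          _ = _ := by abel
      have h5 : x.1 = x'.1 := by
        have := congrArg (fun z => (2 : F)⁻¹ • z) h4
        simpa [smul_smul, inv_mul_cancel₀ h2] using this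
      have h6 : a • y.1 = a • y'.1 := by rw [h5] at he; exact add_left_cancel he
      have h7 : y.1 = y'.1 := by
        have := congrArg (fun z => a⁻¹ • z) h6
        simpa [smul_smul, inv_mul_cancel₀ ha0] using this
      exact Prod.ext (Subtype.ext h5) (Subtype.ext h7)
    · intro z
      have hs2 : σ (2 : F)⁻¹ = (2 : F)⁻¹ := by rw [map_inv₀, map_ofNat]
      have hsa : σ a⁻¹ = -a⁻¹ := by rw [map_inv₀, ha, inv_neg]
      refine ⟨(⟨(2 : F)⁻¹ • (z + semi A σ z), ?_⟩, ⟨(a⁻¹ * (2 : F)⁻¹) • (z - semi A σ z), ?_⟩), ?_⟩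
      · rw [hsm, hs2, map_add, hτ, add_comm]
      · rw [hsm, map_mul, hs2, hsa, map_sub, hτ, neg_mul, neg_smul, ← smul_neg, neg_sub]
      · change (2 : F)⁻¹ • (z + semi A σ z) + a • ((a⁻¹ * (2 : F)⁻¹) • (z - semi A σ z)) = z
        rw [smul_smul, ← mul_assoc, mul_inv_cancel₀ ha0, one_mul, ← smul_add]
        have : z + semi A σ z + (z - semi A σ z) = (2 : F) • z := by rw [two_smul]; abel
        rw [this, smul_smul, inv_mul_cancel₀ h2, one_smul]
  have hcard := Nat.card_congr (Equiv.ofBijective g hg)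
  rw [Nat.card_prod, h.card_one] at hcard
  have hM : Nat.card M = Nat.card F ^ (n * n) := by
    change Nat.card (Fin n → Fin n → F) = _
    rw [Nat.card_pi, Finset.prod_const, Finset.card_univ, Fintype.card_fin, Nat.card_pi, Finset.prod_const,
      Finset.card_univ, Fintype.card_fin, ← pow_mul]
  rw [hM, ← pow_add] at hcard
  have hdvd : Nat.card F ∣ 3 ^ (9 + 9) := by
    rw [hcard]
    exact dvd_pow_self _ (by positivity)
  obtain ⟨k, -, hk⟩ := (Nat.dvd_prime_pow Nat.prime_three).1 hdvd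
  rw [hk, ← pow_mul] at hcard
  have hk2 : 9 + 9 = k * (n * n) := Nat.pow_right_injective (le_refl 3 |>.trans' (by norm_num)) hcard
  have hn4 : n ≤ 4 := by
    by_contra hlt
    have h5 : 5 * 5 ≤ n * n := Nat.mul_le_mul (by omega) (by omega)
    rcases Nat.eq_zero_or_pos k with h0 | h0
    · rw [h0] at hk2; omega
    · nlinarith
  have hcase : n = 2 ∨ n = 3 ∨ n = 4 := by omega
  rcases hcase with h5 | h5 | h5
  · rw [h5] at hk2; omega
  · refine ⟨h5, ?_⟩
    rw [h5] at hk2
    have : k = 2 := by omega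
    rw [hk, this]; norm_num
  · rw [h5] at hk2; omega

/-- the split case -/
theorem split_case (h2 : (2 : F) ≠ 0) {A : GL (Fin n) F} {σ : F ≃+* F}
    {c : Matrix (Fin n) (Fin n) F} (h : BadF (semi A σ) c) (hs : Spl (semi A σ) c) :
    Nat.card F = 3 ∧ Module.finrank F ↥(LinearMap.range (Matrix.toLin' c)) = 3 := by
  have hF3 : Nat.card F = 3 := le_antisymm (h.card_field hs) (card_ge_three h2)
  refine ⟨hF3, ?_⟩
  let e : Matrix (Fin n) (Fin n) F ≃ₐ[F] Module.End F (Fin n → F) := Matrix.toLinAlgEquiv'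
  have he : ∀ x, e x = Matrix.toLin' x := fun _ => rfl
  have hcc : Matrix.toLin' c * Matrix.toLin' c = Matrix.toLin' c := by
    rw [← he, ← map_mul, h.idem]
  refine rank_three hF3 hcc ?_
  rw [← h.card_corner hs]
  refine Nat.card_congr (e.toEquiv.subtypeEquiv fun x => ?_).symm
  change c * x * c = x ↔ e c * e x * e c = e x
  rw [← map_mul, ← map_mul, e.injective.eq_iff]

/-- **Linear and semilinear type.** -/
theorem cf_psl_linear (hr : r.Prime) (hr2 : r ≠ 2) (hB : Base3 r P) (hn : 2 ≤ n) (A : GL (Fin n) F)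
    (σ : F ≃+* F) (h2 : lift (cj A * fld σ) * lift (cj A * fld σ) = 1)
    (h1 : (lift (cj A * fld σ) : MulAut (Matrix.ProjectiveSpecialLinearGroup (Fin n) F)) ≠ 1) :
    CF P ↥(fixedSubgroup (lift (cj A * fld σ) : MulAut (Matrix.ProjectiveSpecialLinearGroup (Fin n) F))) ∨
      (n = 3 ∧ Nat.card F = 9) ∨ LinEx n F (lift (cj A * fld σ)) := by
  have hnt : Nontrivial (Fin n) := Fin.nontrivial_iff_two_le.2 hn
  have hNZ : NeZero n := ⟨by omega⟩
  have h20 : (2 : F) ≠ 0 := two_ne_zero_of_charP hr hr2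
  have h3 : lift (cj (A * mg σ A) * fld (σ * σ)) = lift (fld (1 : F ≃+* F)) := by
    rw [map_one, map_one, ← h2, ← map_mul]
    congr 1
    rw [mul_assoc, ← mul_assoc (fld σ), fld_mul_cj, map_mul cj, map_mul fld]
    simp only [mul_assoc]
  obtain ⟨⟨c, hc⟩, hσ⟩ := injective_aux h3
  have hτ : ∀ T, semi A σ (semi A σ T) = T := semi_semi hc hσ
  have hfix : ∀ m : Matrix.SpecialLinearGroup (Fin n) F,
      (((cj A * fld σ : MulAut _) m : Matrix.SpecialLinearGroup (Fin n) F) : Matrix (Fin n) (Fin n) F) =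
        semi A σ (m : Matrix _ _ F) := fun m => rfl
  rcases cf_fixU hr hr2 hB (semi A σ) hτ with h4 | ⟨d, hd⟩
  · left
    have h5 : CF P ↥(fixedSubgroup (cj A * fld σ : MulAut (Matrix.SpecialLinearGroup (Fin n) F))) := by
      have hfix : ∀ m : Matrix.SpecialLinearGroup (Fin n) F, (cj A * fld σ : MulAut _) m = m ↔ semi A σ (m : Matrix _ _ F) = m :=
        fun m => ⟨fun h => congrArg Subtype.val h, fun h => Subtype.ext h⟩
      refine CF.fixed_of_normal _ Matrix.SpecialLinearGroup.toGL Matrix.SpecialLinearGroup.toGL_injective h4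
        (fun m hm => (hfix m).1 hm) fun c hc m hm => ⟨cj c m, ?_, ?_⟩
      · rw [hfix, coe_cj]
        have h6 : semi A σ ((c⁻¹ : GL (Fin n) F) : Matrix (Fin n) (Fin n) F) =
          ((c⁻¹ : GL (Fin n) F) : Matrix (Fin n) (Fin n) F) := (fixU (semi A σ)).inv_mem hc
        rw [map_mul, map_mul, h6, (hfix m).1 hm, show semi A σ (c : Matrix _ _ F) = c from hc]
      · apply Units.ext
        rfl
    exact CF.fixed_of_lift pr pr_surjective ker_pr (cj A * fld σ) _ (fun m => (lift_pr _ m).symm) h5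
  · right
    by_cases hd1 : d = 1
    · subst hd1
      left
      by_cases hσ1 : σ = 1
      · subst hσ1
        exfalso
        apply h1
        obtain ⟨l, hl⟩ := inner_case h20 (by omega) hd
        have h5 : (cj A * fld (1 : F ≃+* F) : MulAut (Matrix.SpecialLinearGroup (Fin n) F)) = 1 := by
          apply MulEquiv.ext
          intro m
          apply Subtype.ext
          have h6 := hfix m
          rw [semi_apply] at h6
          have hid : (m : Matrix (Fin n) (Fin n) F).map ((1 : F ≃+* F) : F →+* F) = m := by ext i j; rfl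
          rw [hid, conj_scalar hl] at h6
          exact h6
        rw [h5, map_one]
      · exact field_case h20 hn hσ hσ1 hτ hd
    · right
      have hs := hd.spl primeR_matrix (isUnit_two hr hr2) hτ hd1
      obtain ⟨h5, h6⟩ := split_case h20 hd hs
      refine ⟨h5, d, hd.idem, h6, _, rfl, fun m => ?_⟩
      rw [hfix, hs.tau]

/-- **Graph and graph-field type.** -/
theorem cf_psl_graph (hr : r.Prime) (hr2 : r ≠ 2) (hB : Base3 r P) (hn : 2 ≤ n) (A : GL (Fin n) F)
    (σ : F ≃+* F) (h2 : lift (cj A * fld σ * itr) * lift (cj A * fld σ * itr) = 1) :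
    CF P ↥(fixedSubgroup (lift (cj A * fld σ * itr) :
      MulAut (Matrix.ProjectiveSpecialLinearGroup (Fin n) F))) := by
  have hnt : Nontrivial (Fin n) := Fin.nontrivial_iff_two_le.2 hn
  have hNZ : NeZero n := ⟨by omega⟩
  have h3 : lift (cj (A * mg σ (ctr A)) * fld (σ * σ)) = lift (fld (1 : F ≃+* F)) := by
    rw [map_one, map_one, ← h2, ← map_mul]
    congr 1
    calc cj (A * mg σ (ctr A)) * fld (σ * σ) = cj A * (cj (mg σ (ctr A)) * fld σ) * fld σ := by
          rw [map_mul cj, map_mul fld]; simp only [mul_assoc]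
      _ = cj A * (fld σ * cj (ctr A)) * fld σ * (itr * itr) := by rw [← fld_mul_cj, itr_mul_itr, mul_one]
      _ = cj A * fld σ * cj (ctr A) * (fld σ * itr) * itr := by simp only [mul_assoc]
      _ = cj A * fld σ * (cj (ctr A) * itr) * fld σ * itr := by rw [← itr_mul_fld]; simp only [mul_assoc]
      _ = _ := by rw [← itr_mul_cj]; simp only [mul_assoc]
  obtain ⟨⟨c, hc⟩, hσ⟩ := injective_aux h3
  let s : RInv (Matrix (Fin n) (Fin n) F) := antiInv A σ hc hσ
  have h4 : CF P ↥s.U := cf_unitary_matrix s hr2 hB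
  have h5 : CF P ↥(fixedSubgroup (cj A * fld σ * itr : MulAut (Matrix.SpecialLinearGroup (Fin n) F))) := by
    have hfix : ∀ m : Matrix.SpecialLinearGroup (Fin n) F, (cj A * fld σ * itr : MulAut _) m = m ↔
        s ((m⁻¹ : Matrix.SpecialLinearGroup (Fin n) F) : Matrix _ _ F) = m :=
      fun m => ⟨fun h => congrArg Subtype.val h, fun h => Subtype.ext h⟩
    have hU : ∀ m : Matrix.SpecialLinearGroup (Fin n) F, (cj A * fld σ * itr : MulAut _) m = m ↔
        Matrix.SpecialLinearGroup.toGL m ∈ s.U := by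
      intro m
      rw [hfix]
      have hmm : ((m⁻¹ : Matrix.SpecialLinearGroup (Fin n) F) : Matrix (Fin n) (Fin n) F) * (m : Matrix _ _ F) = 1 := by
        rw [← Matrix.SpecialLinearGroup.coe_mul, inv_mul_cancel, Matrix.SpecialLinearGroup.coe_one]
      have hmm' : (m : Matrix (Fin n) (Fin n) F) *
          ((m⁻¹ : Matrix.SpecialLinearGroup (Fin n) F) : Matrix (Fin n) (Fin n) F) = 1 := by
        rw [← Matrix.SpecialLinearGroup.coe_mul, mul_inv_cancel, Matrix.SpecialLinearGroup.coe_one]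
      have h7 : s ((m⁻¹ : Matrix.SpecialLinearGroup (Fin n) F) : Matrix _ _ F) * s (m : Matrix (Fin n) (Fin n) F) = 1 := by
        rw [← s.mul, hmm', s.one]
      constructor
      · intro h
        change (m : Matrix (Fin n) (Fin n) F) * s (m : Matrix (Fin n) (Fin n) F) = 1
        rw [h] at h7
        exact h7
      · intro h
        have h8 : (m : Matrix (Fin n) (Fin n) F) * s (m : Matrix (Fin n) (Fin n) F) = 1 := h
        have h9 : s (m : Matrix (Fin n) (Fin n) F) * s ((m⁻¹ : Matrix.SpecialLinearGroup (Fin n) F) : Matrix _ _ F) = 1 := by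
          rw [← s.mul, hmm, s.one]
        calc s ((m⁻¹ : Matrix.SpecialLinearGroup (Fin n) F) : Matrix _ _ F) =
            ((m : Matrix (Fin n) (Fin n) F) * s (m : Matrix (Fin n) (Fin n) F)) *
              s ((m⁻¹ : Matrix.SpecialLinearGroup (Fin n) F) : Matrix _ _ F) := by rw [h8, one_mul]
          _ = _ := by rw [mul_assoc, h9, mul_one]
    refine CF.fixed_of_normal _ Matrix.SpecialLinearGroup.toGL Matrix.SpecialLinearGroup.toGL_injective h4
      (fun m hm => (hU m).1 hm) fun c hc m hm => ⟨cj c m, ?_, ?_⟩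
    · rw [hU]
      have h6 : Matrix.SpecialLinearGroup.toGL (cj c m) = c * Matrix.SpecialLinearGroup.toGL m * c⁻¹ :=
        Units.ext rfl
      rw [h6]
      exact s.U.mul_mem (s.U.mul_mem hc ((hU m).1 hm)) (s.U.inv_mem hc)
    · apply Units.ext
      rfl
  exact CF.fixed_of_lift pr pr_surjective ker_pr (cj A * fld σ * itr) _ (fun m => (lift_pr _ m).symm) h5

/-- **`PSL_n(F)`, odd characteristic.** -/
theorem cf_psl (hr : r.Prime) (hr2 : r ≠ 2) (hB : Base3 r P) (hn : 2 ≤ n)
    (α : MulAut (Matrix.ProjectiveSpecialLinearGroup (Fin n) F)) (h2 : α * α = 1) (h1 : α ≠ 1) :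
    CF P ↥(fixedSubgroup α) ∨ (n = 3 ∧ Nat.card F = 9) ∨ LinEx n F α := by
  have := Fintype.ofFinite F
  have : Fact r.Prime := ⟨hr⟩
  rcases Nat.lt_or_ge n 3 with h | h
  · obtain rfl : n = 2 := by omega
    obtain ⟨A, σ, rfl⟩ := surj_two r α
    exact cf_psl_linear hr hr2 hB hn A σ h2 h1
  · rcases surj_three r h α with ⟨A, σ, rfl⟩ | ⟨A, σ, rfl⟩
    · exact cf_psl_linear hr hr2 hB hn A σ h2 h1
    · exact Or.inl (cf_psl_graph hr hr2 hB hn A σ h2)

end Cfsg.Agent.H974
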