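import Cfsg.Agent.H974.ClsBase
/-!
# Involutory automorphisms of prime rings with a central idempotent in the fixed ring (helper974)

`A` a prime ring, `2` invertible, `τ² = 1`, `c ≠ 0, 1` a central idempotent of the fixed ring: `τ` is the conjugation with
`2 c - 1`, and the corners `c A c`, `(1 - c) A (1 - c)` are fixed.
-/

set_option autoImplicit false
set_option linter.unusedSectionVars false
set_option maxHeartbeats 400000

namespace Cfsg.Agent.H974

open Cfsg.Agent.BpLin Cfsg.Agent.H340

/-- prime rings -/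
def PrimeR (A : Type*) [Ring A] : Prop := ∀ x y : A, (∀ r, x * r * y = 0) → x = 0 ∨ y = 0

theorem primeR_matrix {F : Type*} [Field F] {ι : Type*} [Fintype ι] [DecidableEq ι] : PrimeR (Matrix ι ι F) := by
  intro x y h
  by_contra hcon
  rw [not_or] at hcon
  obtain ⟨hx, hy⟩ := hcon
  obtain ⟨i, j, hij⟩ : ∃ i j, x i j ≠ 0 := by
    by_contra hno
    push Not at hno
    exact hx (by ext i j; exact hno i j)
  obtain ⟨k, l, hkl⟩ : ∃ k l, y k l ≠ 0 := by
    by_contra hno
    push Not at hno
    exact hy (by ext i j; exact hno i j)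
  have h1 := congrFun (congrFun (h (Matrix.single j k 1)) i) l
  rw [mul_assoc, Matrix.mul_apply, Finset.sum_eq_single j, Matrix.single_mul_apply_same, one_mul, Matrix.zero_apply] at h1
  · exact mul_ne_zero hij hkl h1
  · intro b _ hb
    rw [Matrix.single_mul_apply_of_ne _ _ _ _ _ hb, mul_zero]
  · intro hj
    exact absurd (Finset.mem_univ j) hj

theorem primeR_end {F V : Type*} [Field F] [AddCommGroup V] [Module F V] : PrimeR (Module.End F V) := by
  intro x y h
  by_contra hcon
  rw [not_or] at hcon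
  obtain ⟨hx, hy⟩ := hcon
  obtain ⟨v, hv⟩ : ∃ v, x v ≠ 0 := by
    by_contra hno
    push Not at hno
    exact hx (LinearMap.ext hno)
  obtain ⟨w, hw⟩ : ∃ w, y w ≠ 0 := by
    by_contra hno
    push Not at hno
    exact hy (LinearMap.ext hno)
  obtain ⟨φ, hφ⟩ : ∃ φ : V →ₗ[F] F, φ (y w) = 1 := by
    obtain ⟨f, hf⟩ := Module.Projective.exists_dual_ne_zero F hw
    refine ⟨(f (y w))⁻¹ • f, ?_⟩
    rw [LinearMap.smul_apply, smul_eq_mul, inv_mul_cancel₀ hf]
  have h1 := LinearMap.congr_fun (h (φ.smulRight v)) w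
  change x (φ (y w) • v) = 0 at h1
  rw [hφ, one_smul] at h1
  exact hv h1

section Ring

variable {A : Type*} [Ring A]

/-- the data -/
structure Spl (τ : A ≃+* A) (c : A) : Prop where
  prime : PrimeR A
  two : ∀ x : A, x + x = 0 → x = 0
  inv : ∀ a, τ (τ a) = a
  fix : τ c = c
  idem : c * c = c
  comm : ∀ a, τ a = a → c * a = a * c
  ne_zero : c ≠ 0
  ne_one : c ≠ 1

namespace Spl

variable {τ : A ≃+* A} {c : A}

theorem compl (h : Spl τ c) : Spl τ (1 - c) where
  prime := h.prime
  two := h.two
  inv := h.inv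
  fix := by rw [map_sub, map_one, h.fix]
  idem := by
    rw [sub_mul, mul_sub, mul_sub, h.idem, one_mul, mul_one, one_mul, sub_self, sub_zero]
  comm a ha := by rw [sub_mul, mul_sub, h.comm a ha, one_mul, mul_one]
  ne_zero := sub_ne_zero.2 (Ne.symm h.ne_one)
  ne_one := fun e => h.ne_zero (by rw [sub_eq_self] at e; exact e)

theorem mul_compl (h : Spl τ c) : c * (1 - c) = 0 := by rw [mul_sub, h.idem, mul_one, sub_self]

theorem compl_mul (h : Spl τ c) : (1 - c) * c = 0 := by rw [sub_mul, h.idem, one_mul, sub_self]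

theorem off (h : Spl τ c) (r : A) : c * τ r * (1 - c) = -(c * r * (1 - c)) := by
  have h1 : c * (r + τ r) * (1 - c) = 0 := by
    rw [h.comm _ (by rw [map_add, h.inv, add_comm]), mul_assoc, h.mul_compl, mul_zero]
  rw [mul_add, add_mul] at h1
  exact (neg_eq_of_add_eq_zero_right h1).symm

/-- the corner is fixed -/
theorem corner (h : Spl τ c) (r : A) : τ (c * r * c) = c * r * c := by
  have h0 : (τ (c * r * c) - c * r * c) = 0 := by
    refine (h.prime (τ (c * r * c) - c * r * c) (1 - c) fun s => ?_).resolve_right h.compl.ne_zero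
    have h1 : τ (c * r * c) * τ (c * s * (1 - c)) = -(c * r * c * (c * s * (1 - c))) := by
      rw [← map_mul]
      have e : c * r * c * (c * s * (1 - c)) = c * (r * c * s) * (1 - c) := by
        calc c * r * c * (c * s * (1 - c)) = c * r * (c * c) * s * (1 - c) := by simp only [mul_assoc]
          _ = _ := by rw [h.idem]; simp only [mul_assoc]
      rw [e, map_mul, map_mul, h.fix, map_sub, map_one, h.fix, h.off]
    have h2 : τ (c * s * (1 - c)) = -(c * s * (1 - c)) := by
      rw [map_mul, map_mul, h.fix, map_sub, map_one, h.fix, h.off]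
    rw [h2, mul_neg, neg_inj] at h1
    have h3 : τ (c * r * c) * c = τ (c * r * c) := by
      have : τ (c * r * c) = c * τ r * c := by rw [map_mul, map_mul, h.fix]
      rw [this, mul_assoc, h.idem]
    have h4 : τ (c * r * c) * (c * s * (1 - c)) = τ (c * r * c) * s * (1 - c) := by
      rw [← mul_assoc, ← mul_assoc, h3]
    have h5 : c * r * c * (c * s * (1 - c)) = c * r * c * s * (1 - c) := by
      calc c * r * c * (c * s * (1 - c)) = c * r * (c * c) * s * (1 - c) := by simp only [mul_assoc]
        _ = _ := by rw [h.idem]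
    rw [h4, h5] at h1
    rw [sub_mul, sub_mul, h1, sub_self]
  exact sub_eq_zero.1 h0

theorem off' (h : Spl τ c) (r : A) : (1 - c) * τ r * c = -((1 - c) * r * c) := by
  have := h.compl.off r
  rwa [sub_sub_cancel] at this

/-- `τ` is the conjugation with `2 c - 1`. -/
theorem tau (h : Spl τ c) (a : A) : τ a = (c - (1 - c)) * a * (c - (1 - c)) := by
  have h1 := h.corner a
  have h2 := h.compl.corner a
  rw [map_mul, map_mul, h.fix] at h1
  rw [map_mul, map_mul, map_sub, map_one, h.fix] at h2
  have h3 := h.off a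
  have h4 := h.off' a
  have e : ∀ x : A, x = c * x * c + c * x * (1 - c) + (1 - c) * x * c + (1 - c) * x * (1 - c) := by
    intro x
    noncomm_ring
  have e1 : (c - (1 - c)) * a * (c - (1 - c)) = c * a * c - c * a * (1 - c) - (1 - c) * a * c + (1 - c) * a * (1 - c) := by
    noncomm_ring
  rw [e (τ a), h1, h2, h3, h4, e1]
  abel

theorem unit_mul (h : Spl τ c) : (c - (1 - c)) * (c - (1 - c)) = 1 := by
  have h1 := h.idem
  have e : (c - (1 - c)) * (c - (1 - c)) = 4 * (c * c - c) + 1 := by noncomm_ring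
  rw [e, h1, sub_self, mul_zero, zero_add]

/-- an exchanged idempotent is the complement -/
theorem swap (h : Spl τ c) (s : RInv A) (hs : ∀ a, τ (s a) = s (τ a)) (h0 : s c * c = 0) : s c = 1 - c := by
  obtain ⟨d, hd⟩ : ∃ d, d = s c := ⟨_, rfl⟩
  rw [← hd] at h0 ⊢
  have hdd : d * d = d := by rw [hd, ← s.mul, h.idem]
  have hdf : τ d = d := by rw [hd, hs, h.fix]
  have hdcom : ∀ a, τ a = a → d * a = a * d := by
    intro a ha
    have h1 := h.comm (s a) (by rw [hs, ha])
    have h2 := congrArg s h1
    rw [s.mul, s.mul, s.inv, ← hd] at h2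
    exact h2.symm
  have hcd : c * d = 0 := by rw [h.comm d hdf, h0]
  have hd0 : d ≠ 0 := fun e => h.ne_zero (s.eq_zero_iff.1 (hd.symm.trans e))
  have hdc : d * (1 - c) = d := by rw [mul_sub, mul_one, h0, sub_zero]
  have hcd' : (1 - c) * d = d := by rw [sub_mul, one_mul, hcd, sub_zero]
  have he : (1 - c) * ((1 - c) - d) = (1 - c) - d := by rw [mul_sub, h.compl.idem, hcd']
  have hde : d * ((1 - c) - d) = 0 := by rw [mul_sub, hdc, hdd, sub_self]
  have hz : (1 - c) - d = 0 := by
    refine (h.prime d ((1 - c) - d) fun r => ?_).resolve_left hd0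
    have h1 := hdcom _ (h.compl.corner r)
    calc d * r * ((1 - c) - d) = (d * (1 - c)) * r * ((1 - c) * ((1 - c) - d)) := by rw [hdc, he]
      _ = d * ((1 - c) * r * (1 - c)) * ((1 - c) - d) := by simp only [mul_assoc]
      _ = (1 - c) * r * (1 - c) * (d * ((1 - c) - d)) := by rw [h1]; simp only [mul_assoc]
      _ = 0 := by rw [hde, mul_zero]
  exact (sub_eq_zero.1 hz).symm

end Spl

end Ring

end Cfsg.Agent.H974
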