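import Cfsg.Agent.H974.ClsFix
/-!
# Classical groups: composition factors of the centralizers of involutory automorphisms, restricted base (helper974)

* `cf_psp` : `InvCF P (PSp m F)` or `|F| = 3`, `m = 3`;
* `cf_odd`, `cf_plus`, `cf_minus`, `cf_psu` : `InvCF P`;
* `cf_psl` : `CF P`, or `n = 3`, `|F| = 9`, or `|F| = 3` and `α` is the conjugation with `2 c - 1`, `c` an idempotent of
  rank 3.
-/

set_option autoImplicit false
set_option linter.unusedSectionVars false
set_option maxHeartbeats 400000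

namespace Cfsg.Agent.H974

open Subgroup Cfsg Cfsg.Agent.BpLin Cfsg.Agent.BpCl Cfsg.Agent.H340
open Cfsg.Agent.ClassicalGeometry.SympAutSemi (perm_apply_inv_self perm_inv_apply_self)

universe u

theorem card_ge_three {F : Type*} [Field F] [Finite F] (h2 : (2 : F) ≠ 0) : 3 ≤ Nat.card F := by
  have := Fintype.ofFinite F
  by_contra h
  have h1 : 1 < Nat.card F := Finite.one_lt_card
  have h3 : Nat.card F = 2 := by omega
  apply h2
  have h4 : ((Nat.card F : ℕ) : F) = 0 := by rw [Nat.card_eq_fintype_card]; exact Nat.cast_card_eq_zero F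
  rw [h3] at h4
  exact_mod_cast h4

section Main

variable {P : ∀ (S : Type u) [Group S], Prop} {r : ℕ} {F V : Type} [Field F] [Finite F] [CharP F r] [AddCommGroup V]
  [Module F V] [Module.Finite F V] {B : LinearMap.BilinForm F V} {ε : F}

/-- **Isometries commuting with a semisimilitude of scalar square.** -/
theorem cf_iso_CL (hr : r.Prime) (hr2 : r ≠ 2) (hP : Base3 r P) [Nontrivial V]
    (hnd : ∀ u, (∀ v, B u v = 0) → u = 0) (hε : ε * ε = 1)
    (hB : ∀ u v, B u v = ε * B v u) {φ : F ≃+* F} {g : Equiv.Perm V} {l : F}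
    (hg : SemiIso (fun u v => B u v) φ l g) {a : F} (ha : a ≠ 0) (hga : ∀ v, g (g v) = a • v) :
    CF P ↥(Iso (fun u v => B u v) ⊓ CL F g) ∨ (Nat.card F = 3 ∧ Module.finrank F V = 6) := by
  have hV : Finite V := Module.finite_of_finite F
  have hE : Finite (Module.End F V) := Finite.of_injective (fun T : Module.End F V => (T : V → V)) DFunLike.coe_injective
  have hss : IsSemisimpleRing (Module.End F V) := IsSemisimpleRing.moduleEnd F V
  have hch : CharP (Module.End F V) r :=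
    charP_of_injective_algebraMap (algebraMap F (Module.End F V)).injective r
  let s := adjI hnd hε hB
  let τ := semiEnd hg.toSemi
  have hττ := semiEnd_semiEnd hg.toSemi ha hga
  rcases cf_fixUnitary hr hr2 hP τ hττ s (semiEnd_adjI hnd hε hB hg) with h1 | ⟨c, hc, h0⟩
  · left
    let e : LinearMap.GeneralLinearGroup F V ≃* (V ≃ₗ[F] V) := LinearMap.GeneralLinearGroup.generalLinearEquiv F V
    have h2 : (s.U ⊓ fixU τ).map e.toMonoidHom = Iso (fun u v => B u v) ⊓ CL F g := by
      ext h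
      rw [Subgroup.mem_map_equiv]
      have he : ∀ v, ((e.symm h : LinearMap.GeneralLinearGroup F V) : Module.End F V) v = h v := fun _ => rfl
      constructor
      · rintro ⟨h3, h4⟩
        refine ⟨fun u v => ?_, fun v => ?_⟩
        · have h5 := (mem_adjU hnd hε hB _).1 h3 u v
          exact h5
        · have h5 := LinearMap.congr_fun (mem_fixU.1 h4) (g v)
          rw [semiEnd_apply, he, he, perm_inv_apply_self] at h5
          exact h5.symm
      · rintro ⟨h3, h4⟩
        refine ⟨(mem_adjU hnd hε hB _).2 h3, mem_fixU.2 ?_⟩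
        apply LinearMap.ext
        intro v
        rw [semiEnd_apply, he, he, ← mem_CL.1 h4, perm_apply_inv_self]
    rw [← h2]
    exact h1.congr ((s.U ⊓ fixU τ).equivMapOfInjective e.toMonoidHom e.injective)
  · right
    obtain ⟨hs, hF⟩ := hc.field_of_swap (F := F) primeR_end (isUnit_two hr hr2) hττ s h0
    have hF3 : Nat.card F = 3 := le_antisymm hF (card_ge_three (two_ne_zero_of_charP hr hr2))
    have hsw := hs.swap s (semiEnd_adjI hnd hε hB hg) h0
    have h3 := hc.card_corner hs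
    exact ⟨hF3, rank_six hF3 hc.idem h3 ((card_corner_swap s hsw).trans h3)⟩

end Main

section Symp

open Cfsg.Agent.ClassicalGeometry.SympBasic Cfsg.Agent.ClassicalGeometry.SympAutSemi
  Cfsg.Agent.ClassicalGeometry.SympGamma

variable {P : ∀ (S : Type u) [Group S], Prop} {r : ℕ} {F : Type} [Field F] [Finite F] [CharP F r] {m : ℕ}

theorem cf_psp_of_mem (hr : r.Prime) (hr2 : r ≠ 2) (hP : Base3 r P) (hm : 1 ≤ m)
    {x : MulAut (PSp m F)} (hx : x * x = 1) (hx' : x ∈ (Psi m F).range) :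
    CF P ↥(fixedSubgroup x) ∨ (Nat.card F = 3 ∧ m = 3) := by
  obtain ⟨g, rfl⟩ := hx'
  obtain ⟨φ, l, hl, hg⟩ := g.2
  have h1 : Psi m F (g ^ 2) = 1 := by rw [map_pow, pow_two, hx]
  obtain ⟨a, ha⟩ := exists_scal_of_Psi_eq_one hm (g ^ 2) h1
  have hga : ∀ v, g.1 (g.1 v) = (a : F) • v := by
    intro v
    have h2 : (g ^ 2).1 v = g.1 (g.1 v) := by rw [pow_two]; rfl
    rw [← h2, ha, scal_apply]
  have hs : SemiIso (fun u v => sympBilin m F u v) φ l g.1 :=
    { add := hg.1, smul := hg.2.1, form := hg.2.2 }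
  have hV : Nontrivial (Fin m ⊕ Fin m → F) := by
    refine ⟨⟨Pi.single (Sum.inl ⟨0, hm⟩) 1, 0, fun h => ?_⟩⟩
    have := congrFun h (Sum.inl ⟨0, hm⟩)
    rw [Pi.single_eq_same] at this
    exact one_ne_zero this
  rcases cf_iso_CL (P := P) (ε := -1) hr hr2 hP (fun u hu => eq_zero_of_forall_sympForm_right hu) (by ring)
      (fun u v => by
        have h3 : (sympBilin m F).IsAlt := fun v => sympForm_self v
        have h4 := h3.neg u v
        linear_combination -h4) hs a.ne_zero hga with key | ⟨h3, h4⟩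
  · left
    rw [← map_fixed] at key
    have h2 : CF P ↥(fixedSubgroup (conjHom m F g)) :=
      key.congr ((fixedSubgroup (conjHom m F g)).equivMapOfInjective _ spLin_injective).symm
    exact CF.fixed_of_lift (QuotientGroup.mk' _) (QuotientGroup.mk'_surjective _)
      (fun y hy => (QuotientGroup.eq_one_iff y).1 hy) (conjHom m F g) _ (fun A => (Psi_mk g A).symm) h2
  · right
    rw [Module.finrank_fintype_fun_eq_card, Fintype.card_sum, Fintype.card_fin] at h4
    exact ⟨h3, by omega⟩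

/-- **`PSp_2m(F)`, odd characteristic.** -/
theorem cf_psp (hr : r.Prime) (hr2 : r ≠ 2) (hP : Base3 r P) (hm : 2 ≤ m) :
    InvCF P (PSp m F) ∨ (Nat.card F = 3 ∧ m = 3) := by
  have := Fintype.ofFinite F
  by_cases h : Nat.card F = 3 ∧ m = 3
  · exact Or.inr h
  left
  intro x hx
  refine (cf_psp_of_mem hr hr2 hP (by omega) hx ?_).resolve_right h
  obtain ⟨g, hg⟩ := Cfsg.Agent.ClassicalGeometry.SympAutExists.exists_semi hm x
    (Cfsg.Agent.ClassicalGeometry.SympAutOddA.recog hm (Or.inr (two_ne_zero_of_charP hr hr2)) x)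
  exact ⟨g, hg⟩

end Symp

section Orth

open QuadraticMap Cfsg.Agent.LieClassical.OrthCore Cfsg.Agent.LieClassical.OrthTrans
  Cfsg.Agent.LieClassical.OrthSimple Cfsg.Agent.LieClassical.OrthForms
  Cfsg.Agent.ClassicalGeometry.OrthSemi Cfsg.Agent.ClassicalGeometry.OrthSemiForms
  Cfsg.Agent.ClassicalGeometry.SympAutSemi

variable {P : ∀ (S : Type u) [Group S], Prop} {r : ℕ} {F V : Type} [Field F] [Finite F] [CharP F r] [AddCommGroup V]
  [Module F V] [Module.Finite F V] {Q : QuadraticForm F V}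

theorem cf_orth_of_mem (hr : r.Prime) (hr2 : r ≠ 2) (hP : Base3 r P) (hG : Good Q) (h6 : Module.finrank F V ≠ 6)
    {x : MulAut (↥(E Q) ⧸ Subgroup.center ↥(E Q))} (hx : x * x = 1) (hx' : x ∈ (Psi Q).range) :
    CF P ↥(fixedSubgroup x) := by
  obtain ⟨g, rfl⟩ := hx'
  obtain ⟨φ, l, hg⟩ := g.2
  have h1 : Psi Q (g ^ 2) = 1 := by rw [map_pow, pow_two, hx]
  obtain ⟨a, ha, hga⟩ := exists_scalar_of_conjE hG (g ^ 2) (eq_one_of_quotAut (commutator_E hG) _ h1)
  have hs : SemiIso (fun u _ => Q u) φ l g.1 :=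
    { add := hg.add, smul := hg.smul, form := fun u _ => hg.form u }
  have hV : Nontrivial V := by
    obtain ⟨x, y, h⟩ := hG.exists_hyp
    exact ⟨⟨x, 0, h.left_ne⟩⟩
  have h2 : (2 : F) ≠ 0 := two_ne_zero_of_charP hr hr2
  have hnd : ∀ u, (∀ v, polarBilin Q u v = 0) → u = 0 := by
    intro u hu
    exact hG.nondeg u hu
  have hga' : ∀ v, g.1 (g.1 v) = a • v := by
    intro v
    have h3 := hga v
    rw [pow_two] at h3
    exact h3
  have key : CF P ↥(Iso (fun u v => polarBilin Q u v) ⊓ CL F g.1) :=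
    (cf_iso_CL (ε := 1) hr hr2 hP hnd (by ring) (fun u v => by
      rw [one_mul]; exact polar_comm Q u v) (semiIso_polar' hs) ha hga').resolve_right fun h => h6 h.2
  rw [← iso_polar h2] at key
  exact CF.fixed_of_lift (QuotientGroup.mk' _) (QuotientGroup.mk'_surjective _)
    (fun y hy => (QuotientGroup.eq_one_iff y).1 hy) (conjE Q g) _ (fun A => (Psi_mk g A).symm) (cf_fixed_conjE g key)

theorem cf_orth_of_index (hr : r.Prime) (hr2 : r ≠ 2) (hP : Base3 r P) (hG : Good Q) (h6 : Module.finrank F V ≠ 6)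
    (h0 : Odd (Psi Q).range.index) : InvCF P (↥(E Q) ⧸ Subgroup.center ↥(E Q)) := by
  intro x hx
  obtain ⟨y, hy⟩ := exists_conj_mem_of_index_odd h0 hx
  refine CF.fixed_conj (β := y) (γ := y⁻¹ * x * y) (by group) (cf_orth_of_mem hr hr2 hP hG h6 ?_ hy)
  calc y⁻¹ * x * y * (y⁻¹ * x * y) = y⁻¹ * (x * x) * y := by group
    _ = 1 := by rw [hx]; group

end Orth

section OrthRows

open Cfsg.Agent.LieClassical.OrthCore Cfsg.Agent.LieClassical.OrthTrans
  Cfsg.Agent.LieClassical.OrthForms Cfsg.Agent.ClassicalGeometry.OrthSemi Cfsg.Agent.ClassicalGeometry.OrthSemiForms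

variable {P : ∀ (S : Type u) [Group S], Prop} {r : ℕ} {F : Type} [Field F] [Finite F] [CharP F r] {m : ℕ}

theorem cf_pomega {ι : Type} [Fintype ι] [DecidableEq ι] {Q : QuadraticForm F (ι → F)} (hr : r.Prime) (hr2 : r ≠ 2)
    (hP : Base3 r P) (hG : Good Q) (h6 : Fintype.card ι ≠ 6) (h0 : Odd (Psi Q).range.index) :
    InvCF P (Cfsg.POmega F ⇑Q) :=
  (cf_orth_of_index hr hr2 hP hG (by rwa [Module.finrank_fintype_fun_eq_card]) h0).congr (pomegaEquiv hG).symm

/-- **`POmega`, odd dimension, odd characteristic.** -/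
theorem cf_odd (hr : r.Prime) (hr2 : r ≠ 2) (hP : Base3 r P) (hm : 3 ≤ m) :
    InvCF P (Cfsg.POmega F (Cfsg.quadFormOdd m F)) := by
  have := Fintype.ofFinite F
  have h2 : (2 : F) ≠ 0 := two_ne_zero_of_charP hr hr2
  have hG := good_odd (F := F) (m := m) (by omega) h2
  have htop := MonoidHom.range_eq_top.2 (Cfsg.Agent.AutOrth.Final.surjective_odd hm h2)
  rw [← coe_oddForm]
  refine cf_pomega hr hr2 hP hG ?_ ?_
  · simp; omega
  · rw [htop, Subgroup.index_top]
    exact odd_one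

/-- **`POmega`, plus type, odd characteristic.** -/
theorem cf_plus (hr : r.Prime) (hr2 : r ≠ 2) (hP : Base3 r P) (hm : 4 ≤ m) :
    InvCF P (Cfsg.POmega F (Cfsg.quadFormPlus m F)) := by
  have := Fintype.ofFinite F
  have hG := good_plus (F := F) (m := m) (by omega)
  rw [← coe_plusForm]
  refine cf_pomega hr hr2 hP hG ?_ ?_
  · simp; omega
  · by_cases h4 : m = 4
    · subst h4
      rw [Cfsg.Agent.AutOrth.Final.index_plus_four]
      decide
    · have htop := MonoidHom.range_eq_top.2 (Cfsg.Agent.AutOrth.Final.surjective_plus (F := F) (m := m) (by omega))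
      rw [htop, Subgroup.index_top]
      exact odd_one

/-- **`POmega`, minus type, odd characteristic.** -/
theorem cf_minus (hr : r.Prime) (hr2 : r ≠ 2) (hP : Base3 r P) (hm : 4 ≤ m) {a b : F}
    (hab : ∀ z₁ z₂ : F, z₁ ^ 2 + a * z₁ * z₂ + b * z₂ ^ 2 = 0 → z₁ = 0 ∧ z₂ = 0) :
    InvCF P (Cfsg.POmega F (Cfsg.quadFormMinus (m - 1) F a b)) := by
  have := Fintype.ofFinite F
  have hG := good_minus (F := F) (m := m - 1) (by omega) a b hab
  have htop := MonoidHom.range_eq_top.2 (Cfsg.Agent.AutOrth.Final.surjective_minus (F := F) (m := m - 1) (by omega) hab)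
  rw [← coe_minusForm]
  refine cf_pomega hr hr2 hP hG ?_ ?_
  · simp; omega
  · rw [htop, Subgroup.index_top]
    exact odd_one

end OrthRows

section Unitary

open Matrix
open Cfsg.Agent.LieClassical.HermBasic Cfsg.Agent.LieClassical.HermSiegel
open Cfsg.Agent.ClassicalGeometry.PSUAutCount (gm semiConj toAut gm_mul gm_one gm_mul_inv gm_inv_mul eq_of_toAut_eq
  sc gm_sc_mul toAut_sc_mul herm_gm act_semiConj herm_semi gm_mulVec_inv gm_inv_mulVec gm_inj)
open Cfsg.Agent.Schreier.PSU (f₁ f₂ toAut_eq mapGU conj_field toAut_pr' gm_mapGU)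
open Cfsg.Agent.CpAutU.Desc (toAut_mul toAut_one gm_mapGU')
open Cfsg.Agent.ClassicalGeometry.AutPSL.Root Cfsg.Agent.ClassicalGeometry.AutPSL.Auto
  Cfsg.Agent.ClassicalGeometry.AutPSL.Main Cfsg.Agent.Schreier.ClassPSL

variable {P : ∀ (S : Type u) [Group S], Prop} {r : ℕ} {F : Type} [Field F] [Fintype F] [CharP F r] {n q : ℕ}

/-- **`PSU_n(q)`, odd characteristic.** -/
theorem cf_psu (hr : r.Prime) (hr2 : r ≠ 2) (hB : Base3 r P) (hF : Fintype.card F = q ^ 2) (hn : 3 ≤ n)
    (h32 : ¬ (n = 3 ∧ q = 2)) (α : MulAut (PSU n F q)) (h2 : α * α = 1) :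
    CF P ↥(fixedSubgroup α) := by
  obtain ⟨A, ρ, rfl⟩ := ClassicalGeometry.PSUAutMain.exists_toAut hF hn h32 α
  have hNZ : NeZero n := ⟨by omega⟩
  rw [toAut_mul] at h2
  obtain ⟨hρ, c, -, hc⟩ := eq_of_toAut_eq (A := 1) (ρ := 1) hF hn ((toAut_one (F := F) (n := n) (q := q)).trans h2.symm)
  obtain ⟨B, hB'⟩ : ∃ B : GL (Fin n) F, B = (A : GL (Fin n) F) := ⟨_, rfl⟩
  have hBc : scalar (Fin n) c = ((B * mg ρ B : GL (Fin n) F) : Matrix (Fin n) (Fin n) F) := by
    rw [hB']
    change _ = gm (A * mapGU ρ A)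
    rw [hc, gm_one, Matrix.scalar_apply, ← Matrix.smul_one_eq_diagonal]
  have hτ : ∀ T, semi B ρ (semi B ρ T) = T := semi_semi hBc hρ
  let s := ctI n hF
  have hBU : B ∈ s.U := (mem_ctU hF B).2 (by rw [hB']; exact fun u v => herm_gm A u v)
  have hBs : s (B : Matrix (Fin n) (Fin n) F) = ((B⁻¹ : GL (Fin n) F) : Matrix (Fin n) (Fin n) F) := by
    have h3 : (B : Matrix (Fin n) (Fin n) F) * s (B : Matrix (Fin n) (Fin n) F) = 1 := hBU
    rw [← Units.mul_right_inj B, h3, Units.mul_inv]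
  have hBs' : s ((B⁻¹ : GL (Fin n) F) : Matrix (Fin n) (Fin n) F) = (B : Matrix (Fin n) (Fin n) F) := by
    rw [← hBs, s.inv]
  have hs : ∀ T, semi B ρ (s T) = s (semi B ρ T) := by
    intro T
    rw [semi_apply, semi_apply, s.mul, s.mul, hBs, hBs', ← mul_assoc]
    congr 2
    ext i j
    exact map_pow ρ _ _
  have h4 : CF P ↥(s.U ⊓ fixU (semi B ρ)) := by
    refine (cf_fixUnitary hr hr2 hB (semi B ρ) hτ s hs).resolve_right ?_
    rintro ⟨c, hc, h0⟩
    have h5 := (hc.field_of_swap (F := F) primeR_matrix (isUnit_two hr hr2) hτ s h0).2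
    rw [Nat.card_eq_fintype_card, hF] at h5
    have h6 : 1 < Fintype.card F := Fintype.one_lt_card
    rw [hF] at h6
    have h7 : q < 2 := by nlinarith
    interval_cases q <;> omega
  have hsemi : ∀ m : SU n F q, mat (semiConj A ρ m) = semi B ρ (mat m) := by
    intro m
    rw [hB']
    rfl
  have hfix : ∀ m : SU n F q, semiConj A ρ m = m ↔ semi B ρ (mat m) = mat m :=
    fun m => ⟨fun h => by rw [← hsemi, h], fun h => mat_injective (by rw [hsemi, h])⟩
  let f : SU n F q →* GL (Fin n) F := (Matrix.SpecialLinearGroup.toGL).comp (SU n F q).subtype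
  have hf : ∀ m : SU n F q, (f m : Matrix (Fin n) (Fin n) F) = mat m := fun _ => rfl
  have hfU : ∀ m : SU n F q, f m ∈ s.U := fun m => (mem_ctU hF _).2 m.2
  have h5 : CF P ↥(fixedSubgroup (semiConj A ρ : MulAut (SU n F q))) := by
    refine CF.fixed_of_normal _ f
      (Matrix.SpecialLinearGroup.toGL_injective.comp (SU n F q).subtype_injective) h4
      (fun m hm => ⟨hfU m, (hfix m).1 hm⟩) fun c hc m hm => ?_
    have hcm : c * f m * c⁻¹ ∈ s.U := s.U.mul_mem (s.U.mul_mem hc.1 (hfU m)) (s.U.inv_mem hc.1)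
    have hcf : c * f m * c⁻¹ ∈ fixU (semi B ρ) :=
      Subgroup.mul_mem _ (Subgroup.mul_mem _ hc.2 ((hfix m).1 hm)) (Subgroup.inv_mem _ hc.2)
    have hdet : ((c * f m * c⁻¹ : GL (Fin n) F) : Matrix (Fin n) (Fin n) F).det = 1 := by
      have h6 : ((f m : GL (Fin n) F) : Matrix (Fin n) (Fin n) F).det = 1 := det_mat m
      rw [Units.val_mul, Units.val_mul, Matrix.det_mul, Matrix.det_mul, h6, mul_one, ← Matrix.det_mul,
        ← Units.val_mul, mul_inv_cancel, Units.val_one, Matrix.det_one]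
    let m' : SU n F q := ⟨⟨_, hdet⟩, (mem_ctU hF _).1 hcm⟩
    have hm' : mat m' = ((c * f m * c⁻¹ : GL (Fin n) F) : Matrix (Fin n) (Fin n) F) := rfl
    refine ⟨m', (hfix m').2 ?_, ?_⟩
    · rw [hm']
      exact hcf
    · apply Units.ext
      rfl
  exact CF.fixed_of_lift (ClassicalGeometry.UnitAutBasic.pr n F q) ClassicalGeometry.UnitAutBasic.pr_surjective
    (fun x hx => (QuotientGroup.eq_one_iff x).1 hx) (semiConj A ρ) _ (fun m => rfl) h5

end Unitary

end Cfsg.Agent.H974
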