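import Cfsg.Agent.H974.ExcComb
import Cfsg.Agent.UGT.U2.FOne.ADERows
import Cfsg.Agent.KFacts.RgdKap

/-!
# `E₆(q)`, `E₇(q)`, `E₈(q)`, `q` odd: three commuting groups of fixed points (helper974)

`e6`, `e7`, `e8` : for every involutory automorphism `x` the group `C(x)` contains three pairwise commuting subgroups of even
order which are generated by `p`-elements.
-/

set_option autoImplicit false
set_option linter.unusedSectionVars false
set_option maxHeartbeats 400000

namespace Cfsg.Agent.H974.Exc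

open CoxeterSystem Cfsg.Agent.ChevalleyStructure.CoxeterGeom Cfsg.Agent.Tits.Roots Cfsg.Agent.Tits.Core
  Cfsg.Agent.Tits.RootComb Cfsg.Agent.Tits.Exchange Cfsg.Agent.Nodes.Comb Cfsg.Agent.Nodes.Reps
  Cfsg.Agent.Nodes.BNOf Cfsg.Agent.Nodes.RGDLib Cfsg.Agent.Nodes.Bruhat Cfsg.Agent.Nodes.StabComb
  Cfsg.Agent.Nodes.OppDec Cfsg.Agent.Nodes.Coroot Cfsg.Agent.KFacts.RgdSL Cfsg.Agent.UGT.U2.FOne
open Cfsg.Lie Cfsg.Agent.ChevalleyStructure Cfsg.Agent.ChevalleyStructure.CoxeterGeomTypes
  Cfsg.Agent.Nodes.RGDChev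
open Cfsg.Agent.KFacts.RgdChevCoord (TT XX nc)

section Abs

variable {I W K : Type*} [Fintype I] [DecidableEq I] [Group W] [Group K] {M : CoxeterMatrix I}
  {cs : CoxeterSystem M W} {A : I → I → ℤ} {h : IsCartan M A} {p : ℕ} {T : Subgroup K} {n : I → K}
  {X : (I → ℤ) → Subgroup K}

theorem cartan_three (h : IsCartan M A) {i j : I} (hij : M i j = 3) : A i j = -1 ∧ A j i = -1 := by
  have hne : i ≠ j := by
    rintro rfl
    rw [M.diagonal] at hij
    norm_num at hij
  rcases h.rel i j hne with h1 | h1 | h1 | h1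
  · omega
  · exact h1.2
  · omega
  · omega

theorem cartan_two (h : IsCartan M A) {i j : I} (hij : M i j = 2) : A i j = 0 := by
  have hne : i ≠ j := by
    rintro rfl
    rw [M.diagonal] at hij
    norm_num at hij
  rcases h.rel i j hne with h1 | h1 | h1 | h1
  · exact h1.2.1
  · omega
  · omega
  · omega

theorem pairing_sr (i j : I) : pairing A i (sr j) = A i j := by
  rw [sr, pairing_single, mul_one]

/-- adjacent simple reflections do not commute -/
theorem not_comm_three [Finite W] {i j : I} (hij : M i j = 3) :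
    cs.simple i * cs.simple j ≠ cs.simple j * cs.simple i := by
  intro h1
  have h2 := LieRecognition.CoxForm.orderOf_eq cs i j
  have h3 : (cs.simple i * cs.simple j) ^ 2 = 1 := by
    rw [pow_two]
    calc cs.simple i * cs.simple j * (cs.simple i * cs.simple j)
        = cs.simple i * cs.simple j * (cs.simple j * cs.simple i) := by rw [← h1]
      _ = cs.simple i * (cs.simple j * cs.simple j) * cs.simple i := by group
      _ = 1 := by rw [cs.simple_mul_simple_self, mul_one, cs.simple_mul_simple_self]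
  have h4 := orderOf_dvd_of_pow_eq_one h3
  rw [h2] at h4
  have h5 := Nat.le_of_dvd (by norm_num) h4
  omega

/-- a node of `J` has no fixed neighbour which is not adjacent to the other nodes of `J` -/
theorem adj_J [Finite W] [Finite K] [Fact p.Prime] {x d : MulAut K} {φ : W ≃* W} {σ : I → I} {J : Set I} {g : K}
    (N : NF cs h p T n X x d φ σ J g) (hs : SL cs h) (i j : I) (L : List I) (hi : σ i = i) (hij : M i j = 3)
    (hL : ∀ k, k = j ∨ k = i ∨ k ∈ L ∨ M i k = 2) (hLJ : ∀ a ∈ L, a ∉ J) : j ∉ J := by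
  intro hj
  have h1 := cartan_three h hij
  have hA : A2 cs h (sr j) (sr i) := by
    refine hs.a2 (isRoot_sr cs h j) (isRoot_sr cs h i) ?_
    rw [cpr_sr, pairing_sr, h1.1]
  refine N.false_of_natJ hj hA ?_
  have h2 := N.xX 1 i
  rw [map_one, map_one, mul_one, Module.End.one_apply, hi, FFour.rep_wJ N.Jcomm hj, cpr_sr, pairing_sr, h1.2] at h2
  · rw [h2]
    congr 1
    module
  · intro k hk1 hk2
    rw [cpr_sr, pairing_sr]
    rcases hL k with h3 | h3 | h3 | h3
    · exact absurd h3 hk2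
    · subst h3
      exact absurd (N.Jcomm k hk1 j hj) (not_comm_three hij)
    · exact absurd hk1 (hLJ k h3)
    · rw [M.symmetric] at h3
      exact cartan_two h h3

theorem wJ_empty' (cs : CoxeterSystem M W) [Finite W] : wJ cs (∅ : Set I) = 1 := by
  have F : Tits.OppRes.Cox cs := inferInstance
  have h := F.wJ_mem (∅ : Set I)
  unfold WJ at h
  rwa [Set.image_empty, Subgroup.closure_empty, Subgroup.mem_bot] at h

/-- the action of a diagram automorphism on the roots -/
theorem rep_comp {φ : W ≃* W} {σ : I → I} (hφ : ∀ i, φ (cs.simple i) = cs.simple (σ i)) (hσσ : ∀ i, σ (σ i) = i)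
    (hA : ∀ i j, A (σ i) (σ j) = A i j) (w : W) (v : I → ℤ) : rep cs h (φ w) (v ∘ σ) = (rep cs h w v) ∘ σ := by
  have key : ∀ (i : I) (v : I → ℤ), rep cs h (cs.simple (σ i)) (v ∘ σ) = (rep cs h (cs.simple i) v) ∘ σ := by
    intro i v
    rw [rep_simple_eq, rep_simple_eq]
    have h1 : pairing A (σ i) (v ∘ σ) = pairing A i v := by
      change ∑ k, A (σ i) k * (v ∘ σ) k = ∑ k, A i k * v k
      let e : I ≃ I := ⟨σ, σ, hσσ, hσσ⟩
      rw [← Equiv.sum_comp e (fun k => A (σ i) k * (v ∘ σ) k)]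
      refine Finset.sum_congr rfl fun k _ => ?_
      change A (σ i) (σ k) * v (σ (σ k)) = _
      rw [hA, hσσ]
    rw [h1]
    funext k
    simp only [Pi.sub_apply, Pi.smul_apply, Function.comp_apply, smul_eq_mul]
    congr 2
    by_cases hk : k = σ i
    · rw [hk, hσσ, sr_self, sr_self]
    · rw [sr_ne hk, sr_ne]
      intro h2
      exact hk (by rw [← h2, hσσ])
  obtain ⟨ω, rfl⟩ := cs.wordProd_surjective w
  induction ω with
  | nil => rw [wordProd_nil, map_one, map_one, Module.End.one_apply, Module.End.one_apply]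
  | cons i ω ih => rw [wordProd_cons, map_mul, hφ, rep_mul_apply, rep_mul_apply, ih, key]

theorem fix_of_id [Finite W] {x : MulAut K} {φ : W ≃* W} {σ : I → I} {J : Set I}
    (H : NX cs h p T n X x φ σ J) (hσ : ∀ i, σ i = i) (hJ : J = ∅) {c : I → ℤ} (hc : IsRoot cs h c) :
    (X c).map x.toMonoidHom = X c := by
  rw [H.xX_id hσ hc, hJ, wJ_empty', map_one, Module.End.one_apply]

theorem map_of_graph [Finite W] {x : MulAut K} {φ : W ≃* W} {σ : I → I} {J : Set I}
    (H : NX cs h p T n X x φ σ J) (hA : ∀ i j, A (σ i) (σ j) = A i j) (hJ : J = ∅) {c : I → ℤ} (hc : IsRoot cs h c) :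
    (X c).map x.toMonoidHom = X (c ∘ σ) := by
  obtain ⟨w, i, rfl⟩ := hc
  rw [H.xX, hJ, wJ_empty', one_mul, ← rep_comp H.φ_simple H.σσ hA]
  congr 2
  funext k
  by_cases hk : k = σ i
  · rw [hk, Function.comp_apply, H.σσ, sr_self, sr_self]
  · rw [Function.comp_apply, sr_ne hk, sr_ne]
    intro h2
    exact hk (by rw [← h2, H.σσ])

end Abs

/-! ### Numbers -/

/-- the Cartan numbers, simply laced case -/
def cf {l : ℕ} (A : Fin l → Fin l → ℤ) (x y : Fin l → ℤ) : ℤ := ∑ i, x i * ∑ k, A i k * y k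

section Num

variable {D : ChevalleyDatum} {l : ℕ} {M : CoxeterMatrix (Fin l)} (hp : IsType D l M) {W : Type*} [Group W] [Finite W]
  (cs : CoxeterSystem M W)

theorem isRoot_of {v : Fin l → ℤ} (hv : ∃ r ∈ List.range D.nroots, vec D l r = v) : IsRoot cs hp.isCartan v := by
  obtain ⟨r, hr, rfl⟩ := hv
  exact isRoot_vec hp cs (List.mem_range.1 hr)

variable {cs} in
theorem cpr_of (hs : SL cs hp.isCartan) (x : Fin l → ℤ) {y : Fin l → ℤ} (hy : IsRoot cs hp.isCartan y) {c : ℤ}
    (h : cf (cartanOf D l) x y = c) : cpr cs hp.isCartan x y = c := by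
  rw [Triality.cpr_sum hs x hy, ← h]
  rfl

end Num

/-! ### The systems of type `E` -/

set_option backward.isDefEq.respectTransparency false

theorem sl_E8 {W : Type*} [Group W] [Finite W] (cs : CoxeterSystem CoxeterMatrix.E₈ W) :
    SL cs (isType_E8).isCartan :=
  KFacts.RgdKap.sl_of (by decide +kernel) (by decide +kernel)

theorem sl_E7 {W : Type*} [Group W] [Finite W] (cs : CoxeterSystem CoxeterMatrix.E₇ W) :
    SL cs (isType_E7).isCartan :=
  KFacts.RgdKap.sl_of (by decide +kernel) (by decide +kernel)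

theorem sl_E6 {W : Type*} [Group W] [Finite W] (cs : CoxeterSystem CoxeterMatrix.E₆ W) :
    SL cs (isType_E6).isCartan :=
  KFacts.RgdKap.sl_of (by decide +kernel) (by decide +kernel)

section J

variable {K : Type*} [Group K] [Finite K] {p : ℕ} [Fact p.Prime]

theorem J_E8 {W : Type*} [Group W] [Finite W] {cs : CoxeterSystem CoxeterMatrix.E₈ W}
    {T : Subgroup K} {n : Fin 8 → K} {X : (Fin 8 → ℤ) → Subgroup K} {x d : MulAut K} {φ : W ≃* W}
    {σ : Fin 8 → Fin 8} {J : Set (Fin 8)} {g : K}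
    (N : NF cs (isType_E8).isCartan p T n X x d φ σ J g) (hσ : ∀ i, σ i = i) : J = ∅ := by
  have key := fun i j L => adj_J N (sl_E8 cs) i j L (hσ i)
  have n3 : (3 : Fin 8) ∉ J := key 1 3 [] (by decide +kernel) (by decide +kernel) (by simp)
  have n2 : (2 : Fin 8) ∉ J := key 0 2 [] (by decide +kernel) (by decide +kernel) (by simp)
  have n6 : (6 : Fin 8) ∉ J := key 7 6 [] (by decide +kernel) (by decide +kernel) (by simp)
  have n0 : (0 : Fin 8) ∉ J := key 2 0 [3] (by decide +kernel) (by decide +kernel) (by simpa using n3)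
  have n5 : (5 : Fin 8) ∉ J := key 4 5 [3] (by decide +kernel) (by decide +kernel) (by simpa using n3)
  have n7 : (7 : Fin 8) ∉ J := key 6 7 [5] (by decide +kernel) (by decide +kernel) (by simpa using n5)
  have n4 : (4 : Fin 8) ∉ J := key 5 4 [6] (by decide +kernel) (by decide +kernel) (by simpa using n6)
  have n1 : (1 : Fin 8) ∉ J := key 3 1 [2, 4] (by decide +kernel) (by decide +kernel) (by simpa using ⟨n2, n4⟩)
  rw [Set.eq_empty_iff_forall_notMem]
  intro j
  fin_cases j <;> assumption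

theorem J_E7 {W : Type*} [Group W] [Finite W] {cs : CoxeterSystem CoxeterMatrix.E₇ W}
    {T : Subgroup K} {n : Fin 7 → K} {X : (Fin 7 → ℤ) → Subgroup K} {x d : MulAut K} {φ : W ≃* W}
    {σ : Fin 7 → Fin 7} {J : Set (Fin 7)} {g : K}
    (N : NF cs (isType_E7).isCartan p T n X x d φ σ J g) (hσ : ∀ i, σ i = i) : J = ∅ ∨ J = {1, 4, 6} := by
  have key := fun i j L => adj_J N (sl_E7 cs) i j L (hσ i)
  have n3 : (3 : Fin 7) ∉ J := key 1 3 [] (by decide +kernel) (by decide +kernel) (by simp)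
  have n2 : (2 : Fin 7) ∉ J := key 0 2 [] (by decide +kernel) (by decide +kernel) (by simp)
  have n5 : (5 : Fin 7) ∉ J := key 6 5 [] (by decide +kernel) (by decide +kernel) (by simp)
  have n0 : (0 : Fin 7) ∉ J := key 2 0 [3] (by decide +kernel) (by decide +kernel) (by simpa using n3)
  have h46 : (4 : Fin 7) ∈ J → (6 : Fin 7) ∈ J := by
    intro h4
    by_contra h6
    exact key 5 4 [6] (by decide +kernel) (by decide +kernel) (by simpa using h6) h4
  have h64 : (6 : Fin 7) ∈ J → (4 : Fin 7) ∈ J := by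
    intro h6
    by_contra h4
    exact key 5 6 [4] (by decide +kernel) (by decide +kernel) (by simpa using h4) h6
  have h14 : (1 : Fin 7) ∈ J → (4 : Fin 7) ∈ J := by
    intro h1
    by_contra h4
    exact key 3 1 [2, 4] (by decide +kernel) (by decide +kernel) (by simpa using ⟨n2, h4⟩) h1
  have h41 : (4 : Fin 7) ∈ J → (1 : Fin 7) ∈ J := by
    intro h4
    by_contra h1
    exact key 3 4 [2, 1] (by decide +kernel) (by decide +kernel) (by simpa using ⟨n2, h1⟩) h4
  by_cases h4 : (4 : Fin 7) ∈ J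
  · right
    ext j
    have h1 := h41 h4
    have h6 := h46 h4
    fin_cases j <;> simp_all
  · left
    have n6 : (6 : Fin 7) ∉ J := fun h => h4 (h64 h)
    have n1 : (1 : Fin 7) ∉ J := fun h => h4 (h14 h)
    rw [Set.eq_empty_iff_forall_notMem]
    intro j
    fin_cases j <;> assumption

theorem J_E6 {W : Type*} [Group W] [Finite W] {cs : CoxeterSystem CoxeterMatrix.E₆ W}
    {T : Subgroup K} {n : Fin 6 → K} {X : (Fin 6 → ℤ) → Subgroup K} {x d : MulAut K} {φ : W ≃* W}
    {σ : Fin 6 → Fin 6} {J : Set (Fin 6)} {g : K}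
    (N : NF cs (isType_E6).isCartan p T n X x d φ σ J g) (hσ : ∀ i, σ i = i) : J = ∅ := by
  have key := fun i j L => adj_J N (sl_E6 cs) i j L (hσ i)
  have n3 : (3 : Fin 6) ∉ J := key 1 3 [] (by decide +kernel) (by decide +kernel) (by simp)
  have n2 : (2 : Fin 6) ∉ J := key 0 2 [] (by decide +kernel) (by decide +kernel) (by simp)
  have n4 : (4 : Fin 6) ∉ J := key 5 4 [] (by decide +kernel) (by decide +kernel) (by simp)
  have n0 : (0 : Fin 6) ∉ J := key 2 0 [3] (by decide +kernel) (by decide +kernel) (by simpa using n3)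
  have n5 : (5 : Fin 6) ∉ J := key 4 5 [3] (by decide +kernel) (by decide +kernel) (by simpa using n3)
  have n1 : (1 : Fin 6) ∉ J := key 3 1 [2, 4] (by decide +kernel) (by decide +kernel) (by simpa using ⟨n2, n4⟩)
  rw [Set.eq_empty_iff_forall_notMem]
  intro j
  fin_cases j <;> assumption

theorem J_E6' {W : Type*} [Group W] [Finite W] {cs : CoxeterSystem CoxeterMatrix.E₆ W}
    {T : Subgroup K} {n : Fin 6 → K} {X : (Fin 6 → ℤ) → Subgroup K} {x d : MulAut K} {φ : W ≃* W}
    {σ : Fin 6 → Fin 6} {J : Set (Fin 6)} {g : K}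
    (N : NF cs (isType_E6).isCartan p T n X x d φ σ J g) (hσ : σ = ![5, 1, 4, 3, 2, 0]) : J = ∅ := by
  have hJ : ∀ j ∈ J, j = 1 ∨ j = 3 := by
    intro j hj
    have h1 := N.Jσ j hj
    rw [hσ] at h1
    revert h1
    revert j
    have : ∀ j : Fin 6, (![5, 1, 4, 3, 2, 0] : Fin 6 → Fin 6) j = j → j = 1 ∨ j = 3 := by decide
    exact fun j _ => this j
  have n2 : (2 : Fin 6) ∉ J := fun h => absurd (hJ 2 h) (by decide)
  have n4 : (4 : Fin 6) ∉ J := fun h => absurd (hJ 4 h) (by decide)
  have h1 : σ 1 = 1 := by rw [hσ]; decide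
  have h3 : σ 3 = 3 := by rw [hσ]; decide
  have n3 : (3 : Fin 6) ∉ J := adj_J N (sl_E6 cs) 1 3 [] h1 (by decide +kernel) (by decide +kernel) (by simp)
  have n1 : (1 : Fin 6) ∉ J := adj_J N (sl_E6 cs) 3 1 [2, 4] h3 (by decide +kernel) (by decide +kernel)
    (by simpa using ⟨n2, n4⟩)
  rw [Set.eq_empty_iff_forall_notMem]
  intro j hj
  rcases hJ j hj with rfl | rfl
  · exact n1 hj
  · exact n3 hj

end J

end Cfsg.Agent.H974.Exc
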