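import Cfsg.Agent.H286.OddNF

/-!
# Good and inverted root groups (helper974)

`x` an involutory automorphism of a group with a root group datum of odd characteristic `p`.

* `Good x X r` : `x` fixes a nontrivial element of `X r`; `Inv x X r` : `x` inverts `X r`;
* `MM p x M` : `M` is a group of fixed points of `x`, of even order and generated by `p`-elements;
* `exists_mm` : `r` good gives `M ≤ ⟨X r, X (-r)⟩`; `exists_mm_swap` : also if `x` swaps `X r`, `X s` and the rank one groups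
  commute;
* `good_neg`, `good_add_of_inv`, `inv_add`, `good_add` : good and inverted root groups in an `A₂`-plane.
-/

set_option autoImplicit false
set_option linter.unusedSectionVars false

namespace Cfsg.Agent.H974.Exc

open CoxeterSystem Cfsg.Agent.ChevalleyStructure.CoxeterGeom Cfsg.Agent.Tits.Roots Cfsg.Agent.Tits.Core
  Cfsg.Agent.Tits.RootComb Cfsg.Agent.Tits.Exchange Cfsg.Agent.Nodes.Comb Cfsg.Agent.Nodes.Reps
  Cfsg.Agent.Nodes.BNOf Cfsg.Agent.Nodes.RGDLib Cfsg.Agent.Nodes.Bruhat Cfsg.Agent.Nodes.StabComb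
  Cfsg.Agent.Nodes.OppDec Cfsg.Agent.Nodes.Coroot Cfsg.Agent.KFacts.RgdSL Cfsg.Agent.UGT.U2.FOne
open scoped commutatorElement

variable {I W K : Type*} [Fintype I] [DecidableEq I] [Group W] [Group K] {M : CoxeterMatrix I}
  {cs : CoxeterSystem M W} {A : I → I → ℤ} {h : IsCartan M A} {p : ℕ} {T : Subgroup K} {n : I → K}
  {X : (I → ℤ) → Subgroup K}

/-- `x` fixes a nontrivial element of `X r`. -/
def Good (x : MulAut K) (X : (I → ℤ) → Subgroup K) (r : I → ℤ) : Prop := ∃ u ∈ X r, u ≠ 1 ∧ x u = u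

/-- `x` inverts `X r`. -/
def Inv (x : MulAut K) (X : (I → ℤ) → Subgroup K) (r : I → ℤ) : Prop := ∀ u ∈ X r, x u = u⁻¹

/-- a group of fixed points of even order generated by `p`-elements -/
structure MM (p : ℕ) (x : MulAut K) (N : Subgroup K) : Prop where
  fix : ∀ g ∈ N, x g = g
  gen : N ≤ Subgroup.closure {g | g ∈ N ∧ ∃ k : ℕ, g ^ p ^ k = 1}
  even : Even (Nat.card N)

theorem sq_ne_one {p : ℕ} (hp2 : Odd p) {g : K} {k : ℕ} (hg : g ^ p ^ k = 1) (h1 : g * g = 1) : g = 1 := by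
  have h7 : orderOf g ∣ 2 := orderOf_dvd_of_pow_eq_one (by rw [pow_two, h1])
  have h8 : orderOf g ∣ p ^ k := orderOf_dvd_of_pow_eq_one hg
  have h9 : orderOf g ∣ 1 := by
    have hc : Nat.Coprime 2 (p ^ k) := Nat.Coprime.pow_right _ (Nat.coprime_two_left.2 hp2)
    rw [← hc]
    exact Nat.dvd_gcd h7 h8
  rwa [Nat.dvd_one, orderOf_eq_one_iff] at h9

/-- elements of root groups are `p`-elements -/
theorem pelt [Finite W] (R : RGD cs h p T n X) {r : I → ℤ} (hr : IsRoot cs h r) {u : K} (hu : u ∈ X r) :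
    ∃ k : ℕ, u ^ p ^ k = 1 := by
  obtain ⟨k, hk⟩ := R.pgrp' hr ⟨u, hu⟩
  exact ⟨k, congrArg Subtype.val hk⟩

/-- `x` inverts `X r` if it fixes no nontrivial element. -/
theorem inv_of_not_good [Finite K] {x : MulAut K} (hxx : ∀ g, x (x g) = g) {r : I → ℤ}
    (hxr : (X r).map x.toMonoidHom = X r) (hg : ¬ Good x X r) : Inv x X r := by
  -- `u ↦ u⁻¹ x(u)` is injective
  have hmem : ∀ u ∈ X r, x u ∈ X r := fun u hu => by
    rw [← hxr]; exact Subgroup.mem_map_of_mem x.toMonoidHom hu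
  let f : ↥(X r) → ↥(X r) := fun u => ⟨(u : K)⁻¹ * x u, mul_mem (inv_mem u.2) (hmem u u.2)⟩
  have hf : Function.Injective f := by
    intro u v huv
    have h1 : (u : K)⁻¹ * x u = (v : K)⁻¹ * x v := congrArg Subtype.val huv
    by_contra hne
    apply hg
    refine ⟨(v : K) * (u : K)⁻¹, mul_mem v.2 (inv_mem u.2), ?_, ?_⟩
    · intro h2
      exact hne (Subtype.ext (mul_inv_eq_one.1 h2).symm)
    · rw [map_mul, map_inv]
      have h2 : x (v : K) = (v : K) * ((u : K)⁻¹ * x u) := by rw [h1]; group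
      rw [h2]; group
  intro w hw
  obtain ⟨u, hu⟩ := Finite.surjective_of_injective hf ⟨w, hw⟩
  have h1 : (u : K)⁻¹ * x u = w := congrArg Subtype.val hu
  rw [← h1, map_mul, map_inv, hxx]
  group

theorem not_good_of_inv [Finite W] (R : RGD cs h p T n X) (hp2 : Odd p) {x : MulAut K} {r : I → ℤ}
    (hr : IsRoot cs h r) (hi : Inv x X r) : ¬ Good x X r := by
  rintro ⟨u, hu, hu1, hxu⟩
  apply hu1
  obtain ⟨k, hk⟩ := pelt R hr hu
  refine sq_ne_one hp2 hk ?_
  have h1 := hi u hu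
  rw [hxu] at h1
  nth_rewrite 1 [h1]
  rw [inv_mul_cancel]

/-- an element of `X (-r)` normalising `X r` is trivial -/
theorem eq_one_of_normal [Finite W] (R : RGD cs h p T n X) {r : I → ℤ} (hr : IsRoot cs h r) {c : K}
    (hc : c ∈ X (-r)) (hn : cj c (X r) = X r) : c = 1 := by
  by_contra hc1
  obtain ⟨s, hs, a, ha, b, hb, m, hm, he⟩ := exists_mu R hr.neg hc hc1
  rw [neg_neg] at ha hb
  have h1 : cj m (X r) = X r := by
    rw [he, cj_mul, cj_mul, cj_eq_of_mem hb, hn, cj_eq_of_mem ha]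
  have h2 : cj m (X r) = X (-r) := by
    rw [R.conj_rp hm hr, hs]
    congr 1
    have := cpr_neg_right cs h r hr
    rw [this, cpr_self cs h hr]
    module
  have h3 : r = -r := Cfsg.Agent.Nodes.OppDec.X_injective R hr hr.neg (h1.symm.trans h2)
  have h4 : (2 : ℤ) • r = 0 := by
    rw [two_smul]
    nth_rewrite 1 [h3]
    exact neg_add_cancel r
  rcases smul_eq_zero.1 h4 with h5 | h5
  · norm_num at h5
  · exact hr.ne_zero h5

/-- the reflection in `r` swaps `X r` and `X (-r)` -/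
theorem cj_mu [Finite W] (R : RGD cs h p T n X) {r : I → ℤ} (hr : IsRoot cs h r) {s : W}
    (hs : ∀ y, rep cs h s y = y - cpr cs h y r • r) {m : K} (hm : Rp cs R.nsys s m) :
    cj m (X r) = X (-r) ∧ cj m (X (-r)) = X r := by
  constructor
  · rw [R.conj_rp hm hr, hs, cpr_self cs h hr]
    congr 1
    module
  · rw [R.conj_rp hm hr.neg, hs, cpr_neg_left _ hr, cpr_self cs h hr]
    congr 1
    module

theorem map_cj (x : MulAut K) (g : K) (B : Subgroup K) :
    (cj g B).map x.toMonoidHom = cj (x g) (B.map x.toMonoidHom) := by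
  ext y
  constructor
  · rintro ⟨z, hz, rfl⟩
    rw [mem_cj]
    refine ⟨g⁻¹ * z * g, mem_cj.1 hz, ?_⟩
    change x (g⁻¹ * z * g) = (x g)⁻¹ * x z * x g
    rw [map_mul, map_mul, map_inv]
  · intro hy
    rw [mem_cj] at hy
    obtain ⟨b, hb, e⟩ := hy
    have e' : x b = (x g)⁻¹ * y * x g := e
    refine ⟨g * b * g⁻¹, conj_mem_cj.2 hb, ?_⟩
    change x (g * b * g⁻¹) = y
    rw [map_mul, map_mul, map_inv, e']
    group

/-- **The fixed `μ(u)`.** -/
theorem exists_fix_mu [Finite W] (R : RGD cs h p T n X) {x : MulAut K} {r : I → ℤ} (hr : IsRoot cs h r)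
    (hxr : (X r).map x.toMonoidHom = X r) (hxr' : (X (-r)).map x.toMonoidHom = X (-r)) {u : K} (hu : u ∈ X r)
    (hu1 : u ≠ 1) (hxu : x u = u) :
    ∃ a ∈ X (-r), ∃ b ∈ X (-r), x a = a ∧ x b = b ∧ cj (a * u * b) (X r) = X (-r) ∧
      cj (a * u * b) (X (-r)) = X r := by
  obtain ⟨s, hs, a, ha, b, hb, m, hm, he⟩ := exists_mu R hr hu hu1
  obtain ⟨h1, h2⟩ := cj_mu R hr hs hm
  have hxa : x a ∈ X (-r) := by rw [← hxr']; exact Subgroup.mem_map_of_mem x.toMonoidHom ha
  have hxb : x b ∈ X (-r) := by rw [← hxr']; exact Subgroup.mem_map_of_mem x.toMonoidHom hb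
  have hxm : x m = x a * u * x b := by rw [he, map_mul, map_mul, hxu]
  have h1' : cj (x m) (X r) = X (-r) := by
    have := congrArg (Subgroup.map x.toMonoidHom) h1
    rwa [map_cj, hxr, hxr'] at this
  have h2' : cj (x m) (X (-r)) = X r := by
    have := congrArg (Subgroup.map x.toMonoidHom) h2
    rwa [map_cj, hxr, hxr'] at this
  have hea : x a = a := by
    have hc : x a * a⁻¹ ∈ X (-r) := mul_mem hxa (inv_mem ha)
    have h3 : x m = (x a * a⁻¹) * m * (b⁻¹ * x b) := by rw [hxm, he]; group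
    rw [h3, cj_mul, cj_mul, cj_eq_of_mem (mul_mem (inv_mem hb) hxb), h2] at h2'
    exact mul_inv_eq_one.1 (eq_one_of_normal R hr hc h2')
  have heb : x b = b := by
    have hc : b⁻¹ * x b ∈ X (-r) := mul_mem (inv_mem hb) hxb
    have h3 : x m = m * (b⁻¹ * x b) := by rw [hxm, hea, he]; group
    rw [h3, cj_mul, ← h1] at h1'
    have h4 := congrArg (cj m⁻¹) h1'
    rw [← cj_mul, ← cj_mul, inv_mul_cancel, one_mul, ← cj_mul, inv_mul_cancel, cj_one] at h4
    exact (inv_mul_eq_one.1 (eq_one_of_normal R hr hc h4)).symm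
  exact ⟨a, ha, b, hb, hea, heb, by rw [← he]; exact h1, by rw [← he]; exact h2⟩

theorem root_ne_neg {r : I → ℤ} (hr : IsRoot cs h r) : r ≠ -r := by
  intro h3
  have h4 : (2 : ℤ) • r = 0 := by
    rw [two_smul]
    nth_rewrite 1 [h3]
    exact neg_add_cancel r
  rcases smul_eq_zero.1 h4 with h5 | h5
  · norm_num at h5
  · exact hr.ne_zero h5

/-- a group containing an element swapping two different subgroups has even order -/
theorem even_of_swap [Finite K] {N B C : Subgroup K} {g : K} (hg : g ∈ N) (h1 : cj g B = C) (h2 : cj g C = B)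
    (hne : B ≠ C) : Even (Nat.card N) := by
  by_contra hodd
  rw [Nat.not_even_iff_odd] at hodd
  obtain ⟨k, hk⟩ := hodd
  have h3 : g ^ Nat.card N = 1 := by
    have := pow_card_eq_one' (x := (⟨g, hg⟩ : ↥N))
    exact congrArg Subtype.val this
  have h4 : ∀ j : ℕ, cj (g ^ (2 * j)) B = B := by
    intro j
    induction j with
    | zero => rw [mul_zero, pow_zero, cj_one]
    | succ j ih =>
      have : g ^ (2 * (j + 1)) = g * g * g ^ (2 * j) := by
        rw [mul_add, mul_one, pow_add, pow_two]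
        exact ((Commute.refl g).pow_left _).mul_right ((Commute.refl g).pow_left _)
      rw [this, cj_mul, ih, cj_mul, h1, h2]
  apply hne
  have h5 : cj (g ^ Nat.card N) B = C := by
    have : g ^ Nat.card N = g * g ^ (2 * k) := by rw [hk, pow_succ']
    rw [this, cj_mul, h4, h1]
  rw [h3, cj_one] at h5
  exact h5

/-- **Good roots give `MM`-subgroups.** -/
theorem exists_mm [Finite W] [Finite K] (R : RGD cs h p T n X) {x : MulAut K} {r : I → ℤ} (hr : IsRoot cs h r)
    (hxr : (X r).map x.toMonoidHom = X r) (hxr' : (X (-r)).map x.toMonoidHom = X (-r)) (hg : Good x X r) :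
    ∃ N ≤ RA X r, MM p x N := by
  obtain ⟨u, hu, hu1, hxu⟩ := hg
  obtain ⟨a, ha, b, hb, hxa, hxb, h1, h2⟩ := exists_fix_mu R hr hxr hxr' hu hu1 hxu
  obtain ⟨S, hS⟩ : ∃ S : Set K, S = {a, u, b} := ⟨_, rfl⟩
  have hSm : a ∈ S ∧ u ∈ S ∧ b ∈ S := by rw [hS]; simp
  have hSc : ∀ g ∈ S, g = a ∨ g = u ∨ g = b := by rw [hS]; simp
  refine ⟨Subgroup.closure S, ?_, ?_, ?_, ?_⟩
  · rw [Subgroup.closure_le]
    intro g hg
    rcases hSc g hg with rfl | rfl | rfl
    · exact (le_sup_right : X (-r) ≤ RA X r) ha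
    · exact (le_sup_left : X r ≤ RA X r) hu
    · exact (le_sup_right : X (-r) ≤ RA X r) hb
  · intro g hg
    have hle : Subgroup.closure S ≤ (x.toMonoidHom).eqLocus (MonoidHom.id K) := by
      rw [Subgroup.closure_le]
      intro g hg
      rcases hSc g hg with rfl | rfl | rfl
      · exact hxa
      · exact hxu
      · exact hxb
    exact hle hg
  · rw [Subgroup.closure_le]
    intro g hg
    refine Subgroup.subset_closure ⟨Subgroup.subset_closure hg, ?_⟩
    rcases hSc g hg with rfl | rfl | rfl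
    · exact pelt R hr.neg ha
    · exact pelt R hr hu
    · exact pelt R hr.neg hb
  · refine even_of_swap (g := a * u * b) ?_ h1 h2 ?_
    · exact mul_mem (mul_mem (Subgroup.subset_closure hSm.1) (Subgroup.subset_closure hSm.2.1))
        (Subgroup.subset_closure hSm.2.2)
    · intro h3
      exact root_ne_neg hr (Cfsg.Agent.Nodes.OppDec.X_injective R hr hr.neg h3)

/-- **Swapped commuting root groups give `MM`-subgroups.** -/
theorem exists_mm_swap [Finite W] [Finite K] (R : RGD cs h p T n X) {x : MulAut K} (hxx : ∀ g, x (x g) = g)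
    {r s : I → ℤ} (hr : IsRoot cs h r) (hs' : IsRoot cs h s)
    (hxr : (X r).map x.toMonoidHom = X s) (hxr' : (X (-r)).map x.toMonoidHom = X (-s))
    (hcomm : ∀ a ∈ RA X r, ∀ b ∈ RA X s, a * b = b * a) :
    ∃ N ≤ RA X r ⊔ RA X s, MM p x N := by
  obtain ⟨u, hu, hu1⟩ : ∃ u ∈ X r, u ≠ 1 := by
    by_contra hcon
    push Not at hcon
    exact X_ne_bot R hr ((Subgroup.eq_bot_iff_forall _).2 hcon)
  obtain ⟨s₀, hs, a, ha, b, hb, m, hm, he⟩ := exists_mu R hr hu hu1
  obtain ⟨h1, h2⟩ := cj_mu R hr hs hm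
  have hxm : ∀ g ∈ RA X r, x g ∈ RA X s := by
    intro g hg
    have h3 : (RA X r).map x.toMonoidHom = RA X s := by
      rw [map_RA, hxr, hxr']
      rfl
    rw [← h3]
    exact Subgroup.mem_map_of_mem x.toMonoidHom hg
  have mu : u ∈ RA X r := (le_sup_left : X r ≤ RA X r) hu
  have ma : a ∈ RA X r := (le_sup_right : X (-r) ≤ RA X r) ha
  have mb : b ∈ RA X r := (le_sup_right : X (-r) ≤ RA X r) hb
  have mm : m ∈ RA X r := by rw [he]; exact mul_mem (mul_mem ma mu) mb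
  have key : ∀ g ∈ RA X r, x (g * x g) = g * x g := by
    intro g hg
    rw [map_mul, hxx]
    exact (hcomm g hg _ (hxm g hg)).symm
  have kp : ∀ g ∈ RA X r, (∃ k : ℕ, g ^ p ^ k = 1) → ∃ k : ℕ, (g * x g) ^ p ^ k = 1 := by
    rintro g hg ⟨k, hk⟩
    refine ⟨k, ?_⟩
    have hc : Commute g (x g) := hcomm g hg _ (hxm g hg)
    rw [hc.mul_pow, ← map_pow, hk, map_one, mul_one]
  have kle : ∀ g ∈ RA X r, g * x g ∈ RA X r ⊔ RA X s := fun g hg =>
    mul_mem (Subgroup.mem_sup_left hg) (Subgroup.mem_sup_right (hxm g hg))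
  obtain ⟨S, hS⟩ : ∃ S : Set K, S = {a * x a, u * x u, b * x b} := ⟨_, rfl⟩
  have hSm : a * x a ∈ S ∧ u * x u ∈ S ∧ b * x b ∈ S := by rw [hS]; simp
  have hSc : ∀ g ∈ S, ∃ g' ∈ RA X r, (∃ k : ℕ, g' ^ p ^ k = 1) ∧ g = g' * x g' := by
    intro g hg
    rw [hS] at hg
    simp only [Set.mem_insert_iff, Set.mem_singleton_iff] at hg
    rcases hg with rfl | rfl | rfl
    · exact ⟨a, ma, pelt R hr.neg ha, rfl⟩
    · exact ⟨u, mu, pelt R hr hu, rfl⟩
    · exact ⟨b, mb, pelt R hr.neg hb, rfl⟩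
  have hmS : m * x m ∈ Subgroup.closure S := by
    have h3 : m * x m = (a * x a) * (u * x u) * (b * x b) := by
      rw [he, map_mul, map_mul]
      have e1 : u * x a = x a * u := hcomm u mu _ (hxm a ma)
      have e2 : b * x a = x a * b := hcomm b mb _ (hxm a ma)
      have e3 : b * x u = x u * b := hcomm b mb _ (hxm u mu)
      calc a * u * b * (x a * x u * x b) = a * u * (b * x a) * x u * x b := by group
        _ = a * (u * x a) * (b * x u) * x b := by rw [e2]; group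
        _ = _ := by rw [e1, e3]; group
    rw [h3]
    exact mul_mem (mul_mem (Subgroup.subset_closure hSm.1) (Subgroup.subset_closure hSm.2.1))
      (Subgroup.subset_closure hSm.2.2)
  have hnx : ∀ B ≤ RA X r, cj (x m) B = B := by
    intro B hB
    have hle : ∀ g : K, g ∈ RA X s → cj g B ≤ B := by
      intro g hg y hy
      rw [mem_cj] at hy
      have h3 := hcomm _ (hB hy) g hg
      have h4 : y = g * (g⁻¹ * y * g) * g⁻¹ := by group
      have h5 : y = g⁻¹ * y * g := by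
        nth_rewrite 1 [h4]
        rw [← h3]; group
      rw [h5]
      exact hy
    refine le_antisymm (hle _ (hxm m mm)) ?_
    have h3 := hle _ (inv_mem (hxm m mm))
    have h4 := cj_mono (x m) h3
    rwa [cj_cj_inv] at h4
  refine ⟨Subgroup.closure S, ?_, ?_, ?_, ?_⟩
  · rw [Subgroup.closure_le]
    intro g hg
    obtain ⟨g', hg', -, rfl⟩ := hSc g hg
    exact kle g' hg'
  · intro g hg
    have hle : Subgroup.closure S ≤ (x.toMonoidHom).eqLocus (MonoidHom.id K) := by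
      rw [Subgroup.closure_le]
      intro g hg
      obtain ⟨g', hg', -, rfl⟩ := hSc g hg
      exact key g' hg'
    exact hle hg
  · rw [Subgroup.closure_le]
    intro g hg
    refine Subgroup.subset_closure ⟨Subgroup.subset_closure hg, ?_⟩
    obtain ⟨g', hg', hk, rfl⟩ := hSc g hg
    exact kp g' hg' hk
  · refine even_of_swap (g := m * x m) hmS ?_ ?_ ?_ (B := X r) (C := X (-r))
    · rw [cj_mul, hnx _ le_sup_left, h1]
    · rw [cj_mul, hnx _ le_sup_right, h2]
    · intro h3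
      exact root_ne_neg hr (Cfsg.Agent.Nodes.OppDec.X_injective R hr hr.neg h3)

/-- `r` good: `-r` good -/
theorem good_neg [Finite W] (R : RGD cs h p T n X) {x : MulAut K} {r : I → ℤ} (hr : IsRoot cs h r)
    (hxr : (X r).map x.toMonoidHom = X r) (hxr' : (X (-r)).map x.toMonoidHom = X (-r)) (hg : Good x X r) :
    Good x X (-r) := by
  obtain ⟨u, hu, hu1, hxu⟩ := hg
  obtain ⟨a, ha, b, hb, hxa, hxb, h1, h2⟩ := exists_fix_mu R hr hxr hxr' hu hu1 hxu
  by_contra hcon
  have h3 : ∀ c ∈ X (-r), x c = c → c = 1 := by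
    intro c hc hxc
    by_contra hc1
    exact hcon ⟨c, hc, hc1, hxc⟩
  rw [h3 a ha hxa, h3 b hb hxb, one_mul, mul_one, cj_eq_of_mem hu] at h1
  exact root_ne_neg hr (Cfsg.Agent.Nodes.OppDec.X_injective R hr hr.neg h1)

/-! ### `A₂`-planes -/

theorem comm_inv_inv {u v : K} (h1 : ⁅u, v⁆ * u = u * ⁅u, v⁆) (h2 : ⁅u, v⁆ * v = v * ⁅u, v⁆) :
    ⁅u⁻¹, v⁻¹⁆ = ⁅u, v⁆ := by
  obtain ⟨z, hz⟩ : ∃ z, z = ⁅u, v⁆ := ⟨_, rfl⟩
  rw [← hz] at h1 h2 ⊢
  have e1 : u * v = z * v * u := by rw [hz, commutatorElement_def]; group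
  rw [commutatorElement_def, inv_inv, inv_inv]
  have e2 : z * v⁻¹ = v⁻¹ * z := by
    calc z * v⁻¹ = v⁻¹ * (v * z) * v⁻¹ := by group
      _ = v⁻¹ * z := by rw [← h2]; group
  have e3 : z * u⁻¹ = u⁻¹ * z := by
    calc z * u⁻¹ = u⁻¹ * (u * z) * u⁻¹ := by group
      _ = u⁻¹ * z := by rw [← h1]; group
  calc u⁻¹ * v⁻¹ * u * v = u⁻¹ * v⁻¹ * (u * v) := by group
    _ = u⁻¹ * (v⁻¹ * z) * v * u := by rw [e1]; group
    _ = (u⁻¹ * z) * v⁻¹ * v * u := by rw [← e2]; group
    _ = z := by rw [← e3]; group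

theorem comm_inv_right {u v : K} (h2 : ⁅u, v⁆ * v = v * ⁅u, v⁆) : ⁅u, v⁻¹⁆ = ⁅u, v⁆⁻¹ := by
  obtain ⟨z, hz⟩ : ∃ z, z = ⁅u, v⁆ := ⟨_, rfl⟩
  rw [← hz] at h2 ⊢
  have e1 : u * v * u⁻¹ = z * v := by rw [hz, commutatorElement_def]; group
  have e2 : u * v⁻¹ * u⁻¹ = v⁻¹ * z⁻¹ := by
    calc u * v⁻¹ * u⁻¹ = (u * v * u⁻¹)⁻¹ := by group
      _ = _ := by rw [e1]; group
  rw [commutatorElement_def, inv_inv, e2]
  calc v⁻¹ * z⁻¹ * v = v⁻¹ * (z⁻¹ * v * z) * z⁻¹ := by group
    _ = z⁻¹ := by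
      have : z⁻¹ * v * z = v := by rw [mul_assoc, ← h2]; group
      rw [this]; group

section Plane

variable [Finite W] (R : RGD cs h p T n X) {x : MulAut K} {r s : I → ℤ} (hA : A2 cs h r s)

include R hA

/-- inverted + inverted = good -/
theorem good_add_of_inv (h1 : Inv x X r) (h2 : Inv x X s) : Good x X (r + s) := by
  obtain ⟨w, hw, hw1⟩ : ∃ u ∈ X (r + s), u ≠ 1 := by
    by_contra hcon
    push Not at hcon
    exact X_ne_bot R hA.rxy ((Subgroup.eq_bot_iff_forall _).2 hcon)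
  obtain ⟨u, hu, hu1⟩ : ∃ u ∈ X r, u ≠ 1 := by
    by_contra hcon
    push Not at hcon
    exact X_ne_bot R hA.rx ((Subgroup.eq_bot_iff_forall _).2 hcon)
  obtain ⟨v, hv, rfl⟩ := A2.comm_surj R hA hu hu1 hw
  refine ⟨_, hw, hw1, ?_⟩
  rw [map_commutatorElement, h1 u hu, h2 v hv]
  exact comm_inv_inv (A2.comm_left R hA hw hu) (A2.comm_right R hA hw hv)

/-- good + inverted = inverted -/
theorem inv_add (h1 : Good x X r) (h2 : Inv x X s) : Inv x X (r + s) := by
  obtain ⟨u, hu, hu1, hxu⟩ := h1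
  intro w hw
  obtain ⟨v, hv, rfl⟩ := A2.comm_surj R hA hu hu1 hw
  rw [map_commutatorElement, hxu, h2 v hv]
  exact comm_inv_right (A2.comm_right R hA hw hv)

/-- good + good = good -/
theorem good_add (h1 : Good x X r) (h2 : Good x X s) : Good x X (r + s) := by
  obtain ⟨u, hu, hu1, hxu⟩ := h1
  obtain ⟨v, hv, hv1, hxv⟩ := h2
  refine ⟨⁅u, v⁆, A2.comm_mem R hA hu hv, ?_, ?_⟩
  · intro h3
    obtain ⟨s₀, hs, m, -, hm, he⟩ := A2.exists_mu' R hA hu hu1
    rw [he v hv] at h3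
    apply hv1
    calc v = m⁻¹ * (m * v * m⁻¹) * m := by group
      _ = 1 := by rw [h3]; group
  · rw [map_commutatorElement, hxu, hxv]

end Plane

/-- **The sign rule in an `A₂`-plane.** -/
theorem good_add_iff [Finite W] [Finite K] (R : RGD cs h p T n X) (hp2 : Odd p) {x : MulAut K}
    (hxx : ∀ g, x (x g) = g) {r s : I → ℤ} (hA : A2 cs h r s) (hxr : (X r).map x.toMonoidHom = X r)
    (hxs : (X s).map x.toMonoidHom = X s) : Good x X (r + s) ↔ (Good x X r ↔ Good x X s) := by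
  by_cases h1 : Good x X r <;> by_cases h2 : Good x X s
  · exact ⟨fun _ => ⟨fun _ => h2, fun _ => h1⟩, fun _ => good_add R hA h1 h2⟩
  · refine ⟨fun h3 => absurd h3 ?_, fun h3 => absurd (h3.1 h1) h2⟩
    exact not_good_of_inv R hp2 hA.rxy (inv_add R hA h1 (inv_of_not_good hxx hxs h2))
  · refine ⟨fun h3 => absurd h3 ?_, fun h3 => absurd (h3.2 h2) h1⟩
    have h4 := inv_add R hA.symm h2 (inv_of_not_good hxx hxr h1)
    rw [add_comm] at h4
    exact not_good_of_inv R hp2 hA.rxy h4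
  · exact ⟨fun _ => ⟨fun h3 => absurd h3 h1, fun h3 => absurd h3 h2⟩,
      fun _ => good_add_of_inv R hA (inv_of_not_good hxx hxr h1) (inv_of_not_good hxx hxs h2)⟩

end Cfsg.Agent.H974.Exc
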