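import Cfsg.Agent.H323.StdSpor
import Cfsg.Agent.H246.TitsInner
import Cfsg.Agent.H284.CharTwoComp
import Cfsg.Agent.EvenType.ChevTwo
import Cfsg.Agent.EvenType.CharTwoCent

/-!
# No component `L₃(3)` in the centralizers of the involutory automorphisms of the sporadic groups (helper974)

`not_spor` : `X` sporadic or the Tits group, `α` an automorphism of order 2, `A` a component of `C_X(α)`; then
`|A / Z(A)| ≠ 5616`, if `|Aut(A)|` divides `11232` or `A` is not simple.
-/

set_option autoImplicit false

namespace Cfsg.Agent.H974.LSpor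

open Subgroup Cfsg
open Cfsg.Agent.H287 (FixCard OutCard NoC compCard_fi24 compCard_suz compCard_fi22)
open Cfsg.Agent.CTwoTab (CompCard)
open Cfsg.Agent.SignalizersComponents.Components

universe u

/-- an involutory automorphism and a component of its fixed subgroup -/
structure Cp {X : Type u} [Group X] (α : MulAut X) (A : Subgroup X) : Prop where
  sq : α * α = 1
  ne : α ≠ 1
  comp : IsComponentOf A (fixedSubgroup α)
  card : Nat.card (↥A ⧸ center ↥A) = 5616
  aut : center ↥A = ⊥ → Nat.card (MulAut ↥A) ≤ 5000000000000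

variable {X : Type u} [Group X] [Finite X] {α : MulAut X} {A : Subgroup X}

theorem Cp.order_two (h : Cp α A) : orderOf α = 2 := orderOf_eq_prime (by rw [pow_two]; exact h.sq) h.ne

theorem card_quot_dvd : Nat.card (↥A ⧸ center ↥A) ∣ Nat.card X :=
  (card_quotient_dvd_card _).trans (card_subgroup_dvd_card A)

/-- the order -/
theorem not_order (h : Cp α A) {n : ℕ} (hn : Nat.card X = n) (h1 : ¬ 5616 ∣ n) : False := by
  have h3 : Nat.card (↥A ⧸ center ↥A) ∣ Nat.card X := card_quot_dvd
  rw [hn, h.card] at h3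
  exact h1 h3

/-- a table of orders -/
theorem not_fix (h : Cp α A) {S : ℕ → ℕ → Prop} (hS : FixCard S X) (h1 : ∀ n, ¬ S n 5616) : False := by
  have h3 := hS.comp h.order_two h.comp
  rw [h.card] at h3
  exact h1 _ h3

theorem not_inn (h : Cp α A) (hc : center X = ⊥) (hi : ∃ g, α = MulAut.conj g) {S : ℕ → ℕ → Prop}
    (hS : CompCard S X) (h1 : ∀ n, ¬ S n 5616) : False := by
  obtain ⟨g, rfl⟩ := hi
  have h5 := h.order_two
  rw [CpAut.orderOf_conj hc] at h5
  have h6 := h.comp
  rw [CpAut.fixedSubgroup_conj] at h6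
  have h3 := hS g h5 A h6
  rw [h.card] at h3
  exact h1 _ h3

theorem not_out (h : Cp α A) (ho : ¬ ∃ g, α = MulAut.conj g) {S : ℕ → ℕ → Prop}
    (hS : OutCard S X) (h1 : ∀ n, ¬ S n 5616) : False := by
  have h3 := (hS α h.order_two ho).comp h.comp
  rw [h.card] at h3
  exact h1 _ h3

theorem dvd_fix (h : Cp α A) : 13 ∣ Nat.card ↥(fixedSubgroup α) := by
  have h3 := card_dvd_of_le h.comp.1
  have h4 : Nat.card (↥A ⧸ center ↥A) ∣ Nat.card ↥A := card_quotient_dvd_card _
  rw [h.card] at h4
  exact (show 13 ∣ 5616 by norm_num).trans (h4.trans h3)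

/-! ### the rows -/

section rows

variable [IsSimpleGroup X]

theorem center_bot {n : ℕ} (hn : Nat.card X = n) (h : ¬ n.Prime) : center X = ⊥ :=
  CpAut.TwoInner.center_eq_bot_of_card inferInstance (by rw [hn]; exact h)

theorem fi24 (h : Cp α A) (hX : Spor.IsoFi24' X) : False := by
  have hc := NotCT.Orders.fi24 hX
  by_cases hi : ∃ g, α = MulAut.conj g
  · exact not_inn h (center_bot hc (by norm_num)) hi (compCard_fi24 hX) (fun n hn => by omega)
  · exact not_out h hi (H287.OutFi24.outCard hX) (fun n hn => by omega)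

theorem suz (h : Cp α A) (hX : Spor.IsoSuz X) : False := by
  have hc := NotCT.Orders.suz hX
  by_cases hi : ∃ g, α = MulAut.conj g
  · exact not_inn h (center_bot hc (by norm_num)) hi (compCard_suz hX) (fun n hn => by omega)
  · exact H323.SuzOut.suz13 hX h.sq hi (dvd_fix h)

theorem fi22 (h : Cp α A) (hX : Spor.IsoFi22 X) : False := by
  have hc := NotCT.Orders.fi22 hX
  by_cases hi : ∃ g, α = MulAut.conj g
  · exact not_inn h (center_bot hc (by norm_num)) hi (compCard_fi22 hX) (fun n hn => by omega)
  · exact (H323.FiOut.q_iso hX h.sq hi).1 (dvd_fix h)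

theorem b (h : Cp α A) (hX : Spor.IsoB X) : False := by
  have hc := NotCT.Orders.b hX
  obtain ⟨e⟩ := hX
  obtain ⟨g, rfl⟩ := CpAut.TwoInner.inner_congr e (fun α => H287.inner_of_out S2084.result α) α
  have hcen := center_bot hc (by norm_num)
  have hg := h.order_two
  rw [CpAut.orderOf_conj hcen] at hg
  have h6 := h.comp
  rw [CpAut.fixedSubgroup_conj] at h6
  have h7 := CTwoTab.isComponentOf_map e h6
  rw [CTwoTab.map_centralizer_singleton] at h7
  have h8 := H283.BRow.pack_model (e g) (by rw [MulEquiv.orderOf_eq, hg]) _ h7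
  have e1 := CTwoTab.subMap e A
  rcases h8 with h8 | ⟨hs, hna, -, -, h8, -⟩
  · rw [← Nat.card_congr (CTwoTab.quoEquiv e1).toEquiv, h.card] at h8
    omega
  · have hs' : IsSimpleGroup ↥A := e1.isSimpleGroup
    have hna' : ¬ IsMulCommutative ↥A := H283.BRow.not_comm_of_equiv e1.symm hna
    have h9 := h.aut (CTwoTab.center_eq_bot_of_simple hna')
    rw [Nat.card_congr (MulAut.congr e1).toEquiv] at h9
    omega

theorem tits (h : Cp α A) (hX : Lie.IsoTits X) : False := by
  have hc := NotCT.Orders.tits hX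
  have hcen := center_bot hc (by norm_num)
  have hna : ¬ IsMulCommutative X := by
    intro h0
    have h1 : (⊤ : Subgroup X) ≤ center X := fun a _ => mem_center_iff.2 fun b => (h0.is_comm.comm a b).symm
    rw [hcen, le_bot_iff] at h1
    have h2 : Nat.card ↥(⊤ : Subgroup X) = 1 := by rw [h1]; exact Subgroup.card_bot
    rw [Subgroup.card_top, hc] at h2
    norm_num at h2
  have hact : H284.CharTwoComp.ACT X := fun u hu =>
    EvenType.CharTwoCent.char2_centralizer (EvenType.ChevTwo.charTwo hna (Or.inr (Or.inl ⟨rfl, Or.inr (Or.inr hX)⟩))) hu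
  obtain ⟨g, rfl⟩ := H246.TitsInner.inner_iso hX α h.sq
  obtain ⟨-, -, h3, -⟩ := H284.CharTwoComp.of_fix hact h.sq h.comp.2
  have hg : g ∈ fixedSubgroup (MulAut.conj g) := by
    rw [CpAut.fixedSubgroup_conj, mem_centralizer_singleton_iff]
  have h4 : (⟨g, hg⟩ : ↥(fixedSubgroup (MulAut.conj g))) ∈
      centralizer ((A.subgroupOf (fixedSubgroup (MulAut.conj g)) : Subgroup ↥(fixedSubgroup (MulAut.conj g))) :
        Set ↥(fixedSubgroup (MulAut.conj g))) := by
    rw [mem_centralizer_iff]
    intro a ha
    have h5 : (a : X) ∈ centralizer ({g} : Set X) := (CpAut.fixedSubgroup_conj g).le a.2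
    exact Subtype.ext (mem_centralizer_singleton_iff.1 h5)
  rw [h3, mem_bot] at h4
  have h6 : g = 1 := congrArg Subtype.val h4
  apply h.ne
  rw [h6, map_one]

/-- **No component `L₃(3)`.** -/
theorem not_spor (hX : IsSporadicGroup X ∨ Lie.IsoTits X) (h : Cp α A) : False := by
  rcases hX with (hX | hX | hX | hX | hX | hX | hX | hX | hX | hX | hX | hX | hX | hX | hX | hX | hX | hX | hX | hX | hX |
    hX | hX | hX | hX | hX) | hX
  · exact not_order h (NotCT.Orders.m11 hX) (by norm_num)
  · exact not_order h (NotCT.Orders.m12 hX) (by norm_num)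
  · exact not_order h (NotCT.Orders.m22 hX) (by norm_num)
  · exact not_order h (NotCT.Orders.m23 hX) (by norm_num)
  · exact not_order h (NotCT.Orders.m24 hX) (by norm_num)
  · exact not_order h (NotCT.Orders.j1 hX) (by norm_num)
  · exact not_order h (NotCT.Orders.j2 hX) (by norm_num)
  · exact not_order h (NotCT.Orders.j3 hX) (by norm_num)
  · exact not_order h (NotCT.Orders.j4 hX) (by norm_num)
  · exact not_fix h (H287.fix_co1 hX) (fun n hn => by omega)
  · exact not_order h (NotCT.Orders.co2 hX) (by norm_num)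
  · exact not_order h (NotCT.Orders.co3 hX) (by norm_num)
  · exact not_order h (NotCT.Orders.mcl hX) (by norm_num)
  · exact not_order h (NotCT.Orders.hs hX) (by norm_num)
  · exact suz h hX
  · exact not_order h (NotCT.Orders.he hX) (by norm_num)
  · exact not_fix h (H287.fix_ru hX) (fun n hn => by omega)
  · exact not_order h (NotCT.Orders.on hX) (by norm_num)
  · exact not_order h (NotCT.Orders.ly hX) (by norm_num)
  · exact fi22 h hX
  · exact not_fix h (H287.fix_fi23 hX) (fun n hn => by omega)
  · exact fi24 h hX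
  · exact not_order h (NotCT.Orders.hn hX) (by norm_num)
  · exact not_fix h (H287.fix_th hX) (fun n hn => hn)
  · exact b h hX
  · exact not_fix h (H287.fix_m hX) (fun n hn => by omega)
  · exact tits h hX

end rows

end Cfsg.Agent.H974.LSpor
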