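import Cfsg.Agent.H293.ExcOdd
import Cfsg.Agent.H974.LRows
import Cfsg.Agent.H2.GTwoGraph
import Cfsg.Agent.S4279

/-!
# Exceptional groups of characteristic three, `A / Z(A) ≅ L₃(3)`, cyclic case (helper974)
-/

set_option autoImplicit false

namespace Cfsg.Agent.H974.LExc

open Cfsg Subgroup Cfsg.Agent.H293

universe u v

variable {X : Type u} [Group X] [Finite X] {α : MulAut X} {A : Subgroup X} {F : Type v} [Field F] [Fintype F]

/-- **`G₂(3)`** -/
theorem g2_three {K : Type} [Field K] [Fintype K] (hK : Fintype.card K = 3) (α : MulAut ↥(Lie.chevG2.group K))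
    (hα : α * α = 1) (hα1 : α ≠ 1) : ¬ 13 ∣ Nat.card ↥(fixedSubgroup α) := by
  by_cases hi : ∃ g, α = MulAut.conj g
  · obtain ⟨g, rfl⟩ := hi
    have hcen : center ↥(Lie.chevG2.group K) = ⊥ := by
      obtain ⟨h3, h2⟩ := LThree.three_two hK
      have h4 : ∃ a : K, a ≠ 0 ∧ a ≠ 1 := ⟨2, h2, fun h => one_ne_zero (α := K) (by linear_combination h)⟩
      have hs : IsSimpleGroup ↥(Lie.chevG2.group K) := (S1055.result h4).1
      exact CTwoTab.center_eq_bot_of_simple (S1055.result h4).2
    have h1 : orderOf (MulAut.conj g) = 2 := orderOf_eq_prime (by rw [pow_two]; exact hα) hα1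
    rw [CpAut.orderOf_conj hcen] at h1
    have h2 := (S4279.result (F := K) (by rw [hK]; decide) g h1).1
    rw [CpAut.fixedSubgroup_conj, h2, hK]
    norm_num
  · exact H2.GTwoGraph.g2_three hK α hα hi

/-- **The exceptional groups in the cyclic case.** -/
theorem exc_cyc [IsSimpleGroup X] (h : Cfg α A) (hX : IsExceptionalChevChar 3 X ∨ IsTwistedE6D4Char 3 X)
    (hF : Fintype.card F = 3) (e : (↥A ⧸ center ↥A) ≃* Matrix.ProjectiveSpecialLinearGroup (Fin 3) F) : False := by
  have hp3 : Fact (Nat.Prime 3) := ⟨Nat.prime_three⟩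
  have hc : Nat.card (MulAut (↥A ⧸ center ↥A)) = 11232 := by
    rw [Nat.card_congr (MulAut.congr e).toEquiv, LThree.card_aut hF]
  have h13 : 13 ∣ Nat.card ↥(fixedSubgroup α) := by
    have h1 := card_dvd_of_le h.le
    exact (show 13 ∣ 5616 by norm_num).trans ((LRows.dvd_card hF e).trans h1)
  rcases h.exc_cases Nat.prime_three (by norm_num) hX with h1 | ⟨K, _, _, _, h3, ⟨f⟩, h1⟩ | ⟨K, _, _, _, q, hq, hK, ⟨f⟩, h1⟩
  · rw [hc] at h1
    norm_num at h1
  · have hK : Fintype.card K = 3 := by
      obtain ⟨n, hn, hKn⟩ := Cfg.card_pow (K := K) (p := 3)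
      have hn1 : n = 1 := by
        by_contra hn1
        have h2 : 9 ∣ Fintype.card K := by
          rw [hKn]
          exact pow_dvd_pow 3 (show 2 ≤ n by omega)
        have h4 : 81 ∣ 11232 := by
          rcases h1 with h1 | ⟨h1, -⟩
          · rw [hc] at h1
            exact (((pow_dvd_pow_of_dvd h2 2).trans (pow_dvd_pow _ (by norm_num))).trans h1)
          · rw [hc] at h1
            exact ((pow_dvd_pow_of_dvd h2 2).trans h1)
        norm_num at h4
      rw [hKn, hn1, pow_one]
    have h2 : MulAut.congr f α ≠ 1 := by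
      intro h0
      apply h.ne
      have h4 : MulAut.congr f α = MulAut.congr f 1 := by rw [h0, map_one]
      exact (MulAut.congr f).injective h4
    refine g2_three hK (MulAut.congr f α) (by rw [← map_mul, h.sq, map_one]) h2 ?_
    rw [Nat.card_congr (CpAut.fixEquiv f α).symm.toEquiv]
    exact h13
  · rw [hc] at h1
    have h3 : CharP K 3 := inferInstance
    have h4 : 3 ∣ q := by
      obtain ⟨n, hn, hKn⟩ := Cfg.card_pow (K := K) (p := 3)
      have h5 : 3 ∣ q ^ 3 := by
        rw [← hK, hKn]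
        exact dvd_pow_self 3 (by omega)
      exact Nat.prime_three.dvd_of_dvd_pow h5
    have h5 : 81 ∣ 11232 := ((pow_dvd_pow_of_dvd h4 4).trans h1)
    norm_num at h5

end Cfsg.Agent.H974.LExc
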